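import Mathlib

/-!
# Translations of polynomial rings and avoiding a prime by translation
-/

set_option autoImplicit false
universe u
open MvPolynomial

namespace Groth.Agent.H53.ESL

section transl

variable {σ : Type*} {R : Type*} [CommRing R]

/-- The translation `X i ↦ X i + c i` of a polynomial ring. -/
noncomputable def transl (c : σ → R) : MvPolynomial σ R →ₐ[R] MvPolynomial σ R :=
  aeval (fun i => X i + C (c i))

@[simp] theorem transl_X (c : σ → R) (i : σ) : transl c (X i) = X i + C (c i) := by
  simp [transl]

@[simp] theorem transl_C (c : σ → R) (r : R) : transl c (C r : MvPolynomial σ R) = C r := by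
  simp [transl]

theorem transl_comp (c d : σ → R) : (transl c).comp (transl d) = transl (c + d) := by
  apply MvPolynomial.algHom_ext
  intro i
  simp only [AlgHom.comp_apply, transl_X, map_add, transl_C, Pi.add_apply, C_add]
  ring

theorem transl_zero : transl (0 : σ → R) = AlgHom.id R (MvPolynomial σ R) := by
  apply MvPolynomial.algHom_ext
  intro i
  simp

theorem transl_neg_transl (c : σ → R) (q : MvPolynomial σ R) : transl (-c) (transl c q) = q := by
  have := congrArg (fun φ => φ q) (transl_comp (-c) c)
  simp only [AlgHom.comp_apply] at this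
  rw [this, neg_add_cancel, transl_zero]
  rfl

theorem transl_transl_neg (c : σ → R) (q : MvPolynomial σ R) : transl c (transl (-c) q) = q := by
  have := transl_neg_transl (-c) q
  rwa [neg_neg] at this

theorem transl_injective (c : σ → R) : Function.Injective (transl c) := by
  intro p q h
  rw [← transl_neg_transl c p, h, transl_neg_transl]

theorem totalDegree_transl_le [Fintype σ] [Nontrivial R] (c : σ → R) (q : MvPolynomial σ R) :
    (transl c q).totalDegree ≤ q.totalDegree := by
  classical
  have h1 : transl c q = ∑ d ∈ q.support, C (q.coeff d) * ∏ i, (X i + C (c i)) ^ d i := by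
    change aeval _ q = _
    rw [aeval_def, eval₂_eq']
    rfl
  rw [h1]
  refine totalDegree_finsetSum_le fun d hd => ?_
  refine (totalDegree_mul _ _).trans ?_
  rw [totalDegree_C, zero_add]
  refine (totalDegree_finsetProd _ _).trans ?_
  have h2 : ∀ i, ((X i + C (c i) : MvPolynomial σ R) ^ d i).totalDegree ≤ d i := by
    intro i
    refine (totalDegree_pow _ _).trans ?_
    have : (X i + C (c i) : MvPolynomial σ R).totalDegree ≤ 1 := by
      refine (totalDegree_add _ _).trans ?_
      rw [totalDegree_X, totalDegree_C]
      simp
    calc d i * (X i + C (c i) : MvPolynomial σ R).totalDegree ≤ d i * 1 :=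
          Nat.mul_le_mul_left _ this
      _ = d i := mul_one _
  refine (Finset.sum_le_sum fun i _ => h2 i).trans ?_
  have := le_totalDegree hd
  rwa [Finsupp.sum_fintype _ _ (fun _ => rfl)] at this

end transl


section avoid

variable {A B : Type u} [CommRing A] [CommRing B] [Algebra A B] {n : ℕ}

/-- Avoiding a prime by a translation with coefficients from `A`. -/
theorem exists_transl_notMem (h : MvPolynomial (Fin n) B) (𝔭 : Ideal (MvPolynomial (Fin n) B))
    [𝔭.IsPrime] (m : Fin n →₀ ℕ) (hm : C (h.coeff m) ∉ 𝔭) (F : Finset A)
    (hF : Set.InjOn (fun a : A => Ideal.Quotient.mk 𝔭 (C (algebraMap A B a))) (F : Set A))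
    (hcard : h.totalDegree < F.card) :
    ∃ c : Fin n → A, transl (fun i => algebraMap A B (c i)) h ∉ 𝔭 := by
  classical
  let D := MvPolynomial (Fin n) B ⧸ 𝔭
  let φ : MvPolynomial (Fin n) B →+* D := Ideal.Quotient.mk 𝔭
  let ψ : B →+* D := φ.comp C
  let θ : Fin n → D := fun i => φ (X i)
  let H : MvPolynomial (Fin n) D := transl θ (map ψ h)
  have key : ∀ c : Fin n → A, eval (fun i => ψ (algebraMap A B (c i))) H =
      φ (transl (fun i => algebraMap A B (c i)) h) := by
    intro c
    have : ((eval (fun i => ψ (algebraMap A B (c i)))).comp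
        ((transl θ).toRingHom.comp (map ψ))) =
        φ.comp (transl (fun i => algebraMap A B (c i))).toRingHom := by
      apply MvPolynomial.ringHom_ext
      · intro b
        simp [ψ]
      · intro i
        simp [θ, ψ, add_comm]
    exact congrArg (fun k => k h) this
  have hH : H ≠ 0 := by
    intro h0
    have h1 : map ψ h = 0 := by
      rw [← transl_neg_transl θ (map ψ h)]
      change transl (-θ) H = 0
      rw [h0, map_zero]
    have h2 := congrArg (fun q => q.coeff m) h1
    simp only [coeff_map, coeff_zero] at h2
    exact hm (Ideal.Quotient.eq_zero_iff_mem.1 h2)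
  let g : A → D := fun a => ψ (algebraMap A B a)
  have hdeg : ∀ i, H.degreeOf i < (F.image g).card := by
    intro i
    have hcardimg : (F.image g).card = F.card := Finset.card_image_of_injOn hF
    rw [hcardimg]
    refine lt_of_le_of_lt ?_ hcard
    refine (degreeOf_le_totalDegree _ _).trans ((totalDegree_transl_le θ _).trans ?_)
    exact Finset.sup_mono (support_map_subset ψ h)
  by_contra hcon
  have hcon : ∀ c : Fin n → A, transl (fun i => algebraMap A B (c i)) h ∈ 𝔭 := by
    intro c
    by_contra hc
    exact hcon ⟨c, hc⟩
  apply hH
  refine eq_zero_of_eval_zero_at_prod_finset H (fun _ => F.image g) hdeg ?_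
  intro x hx
  choose c hc1 hc2 using fun i => Finset.mem_image.1 (hx i)
  have hx' : x = fun i => ψ (algebraMap A B (c i)) := by
    funext i
    exact (hc2 i).symm
  rw [hx', key c]
  exact Ideal.Quotient.eq_zero_iff_mem.2 (hcon c)

end avoid

end Groth.Agent.H53.ESL
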