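import Groth.Agent.H53.ESL.PAt
import Groth.Agent.H53.ESL.TranslAlg

/-!
# Affine space over an affine scheme, in `Spec` form, as objects over `S`
-/

set_option autoImplicit false
universe u
open CategoryTheory CategoryTheory.Limits AlgebraicGeometry
open AlgSp

namespace Groth.Agent.H53.ESL

variable {S : Scheme.{u}}

/-- A square of schemes over `S` whose underlying square is a pullback gives a pullback square of
sheaves. -/
theorem isPullback_yon_of_left {X Y Z W : Over S} {a : W ⟶ X} {b : W ⟶ Y} {f : X ⟶ Z} {g : Y ⟶ Z}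
    (h : IsPullback a.left b.left f.left g.left) :
    IsPullback ((yon S).map a) ((yon S).map b) ((yon S).map f) ((yon S).map g) := by
  have hw : a ≫ f = b ≫ g := Over.OverMorphism.ext h.w
  exact (IsPullback.of_map (Over.forget S) hw h).map (yon S)

/-- Points of a pullback square of schemes. -/
theorem exists_point_of_isPullback_scheme {X Y Z W : Scheme.{u}} {a : W ⟶ X} {b : W ⟶ Y}
    {f : X ⟶ Z} {g : Y ⟶ Z} (h : IsPullback a b f g) (x : X) (y : Y) (hxy : f x = g y) :
    ∃ w : W, a w = x ∧ b w = y := by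
  obtain ⟨z, hz1, hz2⟩ := Scheme.Pullback.exists_preimage_pullback x y hxy
  refine ⟨h.isoPullback.inv z, ?_, ?_⟩
  · rw [← Scheme.Hom.comp_apply, h.isoPullback_inv_fst]; exact hz1
  · rw [← Scheme.Hom.comp_apply, h.isoPullback_inv_snd]; exact hz2

section scheme

variable (n : ℕ)

/-- The projection `Spec R[t] ⟶ Spec R`. -/
noncomputable abbrev affProj (R : CommRingCat.{u}) :
    Spec (.of (MvPolynomial (Fin n) R)) ⟶ Spec R :=
  Spec.map (CommRingCat.ofHom (MvPolynomial.C (σ := Fin n)))

/-- The map `Spec R'[t] ⟶ Spec R[t]` induced by `R ⟶ R'`. -/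
noncomputable abbrev affMap {R R' : CommRingCat.{u}} (φ : R ⟶ R') :
    Spec (.of (MvPolynomial (Fin n) R')) ⟶ Spec (.of (MvPolynomial (Fin n) R)) :=
  Spec.map (CommRingCat.ofHom (MvPolynomial.map (σ := Fin n) φ.hom))

@[reassoc]
theorem affMap_proj {R R' : CommRingCat.{u}} (φ : R ⟶ R') :
    affMap n φ ≫ affProj n R = affProj n R' ≫ Spec.map φ := by
  rw [← Spec.map_comp, ← Spec.map_comp]
  congr 1
  ext r
  simp

attribute [local instance] MvPolynomial.algebraMvPolynomial in
theorem isPullback_affMap {R R' : CommRingCat.{u}} (φ : R ⟶ R') :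
    IsPullback (affMap n φ) (affProj n R') (affProj n R) (Spec.map φ) := by
  algebraize [φ.hom]
  exact (isPullback_SpecMap_of_isPushout _ _ _ _
    (CommRingCat.isPushout_of_isPushout R R' (MvPolynomial (Fin n) R)
      (MvPolynomial (Fin n) R'))).flip

/-- Translation by `c` on `Spec R[t]`. -/
noncomputable abbrev affTr {R : CommRingCat.{u}} (c : Fin n → R) :
    Spec (.of (MvPolynomial (Fin n) R)) ⟶ Spec (.of (MvPolynomial (Fin n) R)) :=
  Spec.map (CommRingCat.ofHom (transl c).toRingHom)

@[reassoc]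
theorem affTr_proj {R : CommRingCat.{u}} (c : Fin n → R) :
    affTr n c ≫ affProj n R = affProj n R := by
  rw [← Spec.map_comp]
  congr 1
  ext r
  simp

theorem affTr_comp {R : CommRingCat.{u}} (c d : Fin n → R) :
    affTr n c ≫ affTr n d = affTr n (c + d) := by
  rw [← Spec.map_comp, ← CommRingCat.ofHom_comp]
  congr 2
  refine RingHom.ext fun q => ?_
  change transl c (transl d q) = transl (c + d) q
  rw [← transl_comp]
  rfl

theorem affTr_zero {R : CommRingCat.{u}} : affTr n (0 : Fin n → R) = 𝟙 _ := by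
  rw [← Spec.map_id]
  refine congrArg Spec.map (CommRingCat.hom_ext (RingHom.ext fun q => ?_))
  change transl (0 : Fin n → R) q = q
  rw [transl_zero]
  rfl

instance {R : CommRingCat.{u}} (c : Fin n → R) : IsIso (affTr n c) :=
  ⟨⟨affTr n (-c), by rw [affTr_comp, add_neg_cancel, affTr_zero],
    by rw [affTr_comp, neg_add_cancel, affTr_zero]⟩⟩

theorem affTr_map {R R' : CommRingCat.{u}} (φ : R ⟶ R') (c : Fin n → R) :
    affTr n (fun i => φ.hom (c i)) ≫ affMap n φ = affMap n φ ≫ affTr n c := by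
  rw [← Spec.map_comp, ← Spec.map_comp, ← CommRingCat.ofHom_comp, ← CommRingCat.ofHom_comp]
  congr 2
  refine RingHom.ext fun q => ?_
  change transl (fun i => φ.hom (c i)) (MvPolynomial.map φ.hom q) =
    MvPolynomial.map φ.hom (transl c q)
  induction q using MvPolynomial.induction_on with
  | C a => simp
  | add p q hp hq => simp [hp, hq]
  | mul_X p i hp => simp [hp]

end scheme

section overS

variable (n : ℕ) {R R' : CommRingCat.{u}}

/-- Affine `n`-space over `Spec R`, as a scheme over `S`. -/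
noncomputable def LO (sR : Spec R ⟶ S) : Over S := Over.mk (affProj n R ≫ sR)

noncomputable def LO.proj (sR : Spec R ⟶ S) : LO n sR ⟶ Over.mk sR := Over.homMk (affProj n R) rfl

/-- The map of schemes over `S` given by a ring map. -/
noncomputable def TOmap (φ : R ⟶ R') (sR : Spec R ⟶ S) (sR' : Spec R' ⟶ S)
    (h : Spec.map φ ≫ sR = sR') : Over.mk sR' ⟶ Over.mk sR := Over.homMk (Spec.map φ) h

noncomputable def LO.map (φ : R ⟶ R') (sR : Spec R ⟶ S) (sR' : Spec R' ⟶ S)
    (h : Spec.map φ ≫ sR = sR') : LO n sR' ⟶ LO n sR :=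
  Over.homMk (affMap n φ) (by
    change affMap n φ ≫ affProj n R ≫ sR = affProj n R' ≫ sR'
    rw [affMap_proj_assoc, h])

theorem LO.isPullback_yon (φ : R ⟶ R') (sR : Spec R ⟶ S) (sR' : Spec R' ⟶ S)
    (h : Spec.map φ ≫ sR = sR') :
    IsPullback ((yon S).map (LO.map n φ sR sR' h)) ((yon S).map (LO.proj n sR'))
      ((yon S).map (LO.proj n sR)) ((yon S).map (TOmap φ sR sR' h)) :=
  isPullback_yon_of_left (isPullback_affMap n φ)

/-- Translation, over `S`. -/
noncomputable def LO.tr (sR : Spec R ⟶ S) (c : Fin n → R) : LO n sR ⟶ LO n sR :=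
  Over.homMk (affTr n c) (by
    change affTr n c ≫ affProj n R ≫ sR = affProj n R ≫ sR
    rw [affTr_proj_assoc])

instance (sR : Spec R ⟶ S) (c : Fin n → R) : IsIso (LO.tr n sR c) := by
  have : IsIso ((Over.forget S).map (LO.tr n sR c)) := by
    change IsIso (affTr n c)
    infer_instance
  exact isIso_of_reflects_iso _ (Over.forget S)

theorem LO.tr_map (φ : R ⟶ R') (sR : Spec R ⟶ S) (sR' : Spec R' ⟶ S)
    (h : Spec.map φ ≫ sR = sR') (c : Fin n → R) :
    LO.tr n sR' (fun i => φ.hom (c i)) ≫ LO.map n φ sR sR' h =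
      LO.map n φ sR sR' h ≫ LO.tr n sR c :=
  Over.OverMorphism.ext (affTr_map n φ c)

end overS

end Groth.Agent.H53.ESL
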