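import Groth.Agent.H53.ESL.AffN

/-!
# Affine space in `Spec` form: the cube, smoothness of the projection, etale base change
-/

set_option autoImplicit false
universe u
open CategoryTheory CategoryTheory.Limits AlgebraicGeometry
open AlgSp

namespace Groth.Agent.H53.ESL

variable {S : Scheme.{u}}

section scheme

variable (n : ℕ)

theorem affMap_comp {A B C : CommRingCat.{u}} (φ : A ⟶ B) (ψ : B ⟶ C) :
    affMap n ψ ≫ affMap n φ = affMap n (φ ≫ ψ) := by
  rw [← Spec.map_comp, ← CommRingCat.ofHom_comp]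
  congr 2
  refine RingHom.ext fun q => ?_
  change MvPolynomial.map ψ.hom (MvPolynomial.map φ.hom q) = MvPolynomial.map (φ ≫ ψ).hom q
  rw [MvPolynomial.map_map]
  rfl

/-- The cube: a pushout square of rings gives a pullback square of affine spaces. -/
theorem isPullback_affMap_of_isPushout {A B A' B' : CommRingCat.{u}} {φ : A ⟶ B} {ψ : A ⟶ A'}
    {ι : B ⟶ B'} {φ' : A' ⟶ B'} (h : IsPushout φ ψ ι φ') :
    IsPullback (affMap n ι) (affMap n φ') (affMap n φ) (affMap n ψ) := by
  have right : IsPullback (affProj n A') (affMap n ψ) (Spec.map ψ) (affProj n A) :=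
    (isPullback_affMap n ψ).flip
  have left' : IsPullback (affProj n B') (affMap n ι) (Spec.map ι) (affProj n B) :=
    (isPullback_affMap n ι).flip
  have right' : IsPullback (Spec.map φ') (Spec.map ι) (Spec.map ψ) (Spec.map φ) :=
    (isPullback_SpecMap_of_isPushout _ _ _ _ h).flip
  have outer := left'.paste_horiz right'
  rw [← affMap_proj, ← affMap_proj] at outer
  have comm : affMap n φ' ≫ affMap n ψ = affMap n ι ≫ affMap n φ := by
    rw [affMap_comp, affMap_comp, h.w]
  exact (IsPullback.of_right outer comm right).flip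

theorem smooth_affProj (R : CommRingCat.{u}) : Smooth (affProj n R) := by
  rw [HasRingHomProperty.Spec_iff (P := @Smooth)]
  change (algebraMap R (MvPolynomial (Fin n) R)).Smooth
  rw [RingHom.smooth_algebraMap]
  exact ⟨inferInstance, inferInstance⟩

theorem surjective_affProj (R : CommRingCat.{u}) : Function.Surjective (affProj n R) := by
  intro x
  refine ⟨Spec.map (CommRingCat.ofHom (MvPolynomial.constantCoeff (σ := Fin n) (R := R))) x, ?_⟩
  rw [← Scheme.Hom.comp_apply, ← Spec.map_comp, ← CommRingCat.ofHom_comp]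
  have : (MvPolynomial.constantCoeff (σ := Fin n) (R := R)).comp MvPolynomial.C = RingHom.id R := by
    ext r
    simp
  rw [this]
  change Spec.map (𝟙 R) x = x
  rw [Spec.map_id]
  rfl

theorem etale_affMap {R R' : CommRingCat.{u}} (φ : R ⟶ R') (hφ : Etale (Spec.map φ)) :
    Etale (affMap n φ) :=
  MorphismProperty.of_isPullback (P := @Etale) (isPullback_affMap n φ).flip hφ

end scheme

section overS

variable (n : ℕ)

theorem LO.cube_yon {A B A' B' : CommRingCat.{u}} {φ : A ⟶ B} {ψ : A ⟶ A'}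
    {ι : B ⟶ B'} {φ' : A' ⟶ B'} (h : IsPushout φ ψ ι φ') (sA : Spec A ⟶ S) (sB : Spec B ⟶ S)
    (sA' : Spec A' ⟶ S) (sB' : Spec B' ⟶ S) (h1 : Spec.map φ ≫ sA = sB)
    (h2 : Spec.map ψ ≫ sA = sA') (h3 : Spec.map ι ≫ sB = sB') (h4 : Spec.map φ' ≫ sA' = sB') :
    IsPullback ((yon S).map (LO.map n ι sB sB' h3)) ((yon S).map (LO.map n φ' sA' sB' h4))
      ((yon S).map (LO.map n φ sA sB h1)) ((yon S).map (LO.map n ψ sA sA' h2)) :=
  isPullback_yon_of_left (isPullback_affMap_of_isPushout n h)

theorem LO.locP_smooth_proj {R : CommRingCat.{u}} (sR : Spec R ⟶ S) :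
    LocP @Smooth ((yon S).map (LO.proj n sR)) :=
  Groth.Agent.H53.locP_yon_map_of @Smooth Groth.Agent.H53.etale_le_smooth _ (smooth_affProj n R)

theorem LO.surjective_proj {R : CommRingCat.{u}} (sR : Spec R ⟶ S)
    (y : Points ((yon S).obj (Over.mk sR))) :
    y ∈ Set.range (Points.map ((yon S).map (LO.proj n sR))) := by
  obtain ⟨y₀, rfl⟩ := (Points.schemeHomeo (Over.mk sR)).surjective y
  obtain ⟨z, hz⟩ := surjective_affProj n R y₀
  refine ⟨Points.schemeHomeo (LO n sR) z, ?_⟩
  rw [Points.map_yon_map_apply]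
  exact congrArg _ hz

theorem LO.isEtaleMor_map {R R' : CommRingCat.{u}} (φ : R ⟶ R') (sR : Spec R ⟶ S)
    (sR' : Spec R' ⟶ S) (h : Spec.map φ ≫ sR = sR') (hφ : Etale (Spec.map φ)) :
    IsEtaleMor ((yon S).map (LO.map n φ sR sR' h)) :=
  (isEtaleMor_yon_map_iff _).2 (etale_affMap n φ hφ)

theorem LO.isEtaleMor_tr {R : CommRingCat.{u}} (sR : Spec R ⟶ S) (c : Fin n → R) :
    IsEtaleMor ((yon S).map (LO.tr n sR c)) := by
  refine (isEtaleMor_yon_map_iff _).2 ?_
  change Etale (affTr n c)
  infer_instance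

end overS

end Groth.Agent.H53.ESL
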