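import Groth.Agent.H53.LocalST
import Groth.Agent.H53.Charts
import Groth.Agent.H53.Points

/-!
# Etale-smooth local on source-and-target: basic consequences of the three hypotheses (S10570)
-/

set_option autoImplicit false
universe u
open CategoryTheory CategoryTheory.Limits AlgebraicGeometry
open AlgSp

namespace Groth.Agent.H53.ESL

variable {S : Scheme.{u}}

/-- The three hypotheses of S10570, in `Sp`-form. -/
structure Hyp (P : MorphismProperty (Sp S)) : Prop where
  h1 : IsLocalOnSource (IsEtCover (S := S)) P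
  h2 : IsLocalOnBase (IsSmCover (S := S)) P
  h3 : ∀ ⦃X Y Z : Sp S⦄, IsAlgSpace X → IsAlgSpace Y → IsAlgSpace Z → ∀ (f : X ⟶ Y) (j : Y ⟶ Z),
    P f → RepWith @IsOpenImmersion j → P (f ≫ j)

variable {P : MorphismProperty (Sp S)}

theorem Hyp.mk' (h1 : IsLocalOnSource (IsEtCover (S := S)) P)
    (h2 : IsLocalOnBase (IsSmCover (S := S)) P)
    (h3 : ∀ ⦃X Y Z : AlgSp.Space S⦄ (f : X ⟶ Y) (j : Y ⟶ Z), P f.hom →
      RepWith @IsOpenImmersion j.hom → P (f ≫ j).hom) : Hyp P :=
  ⟨h1, h2, fun X Y Z hX hY hZ f j hf hj =>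
    h3 (X := ⟨X, hX⟩) (Y := ⟨Y, hY⟩) (Z := ⟨Z, hZ⟩) (ObjectProperty.homMk f)
      (ObjectProperty.homMk j) hf hj⟩

/-- Etale-local on the source, one direction, as a usable criterion. -/
theorem Hyp.src_local (hP : Hyp P) {ι : Type u} {X Y : Sp S} (Xi : ι → Sp S) (g : ∀ i, Xi i ⟶ X)
    (hX : IsAlgSpace X) (hY : IsAlgSpace Y) (hXi : ∀ i, IsAlgSpace (Xi i))
    (het : ∀ i, IsEtaleMor (g i)) (hsurj : ∀ x : Points X, ∃ i, x ∈ Set.range (Points.map (g i)))
    (f : X ⟶ Y) (h : ∀ i, P (g i ≫ f)) : P f :=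
  (hP.h1 Xi g hX hXi ⟨het, hsurj⟩ f hY).2 h

/-- Smooth-local on the base, one direction, as a usable criterion. -/
theorem Hyp.base_local (hP : Hyp P) {ι : Type u} {X Y : Sp S} (Yi : ι → Sp S) (g : ∀ i, Yi i ⟶ Y)
    (hX : IsAlgSpace X) (hY : IsAlgSpace Y) (hYi : ∀ i, IsAlgSpace (Yi i))
    (hsm : ∀ i, LocP @Smooth (g i)) (hsurj : ∀ y : Points Y, ∃ i, y ∈ Set.range (Points.map (g i)))
    (f : X ⟶ Y) (Xi : ι → Sp S) (p : ∀ i, Xi i ⟶ Yi i) (q : ∀ i, Xi i ⟶ X)
    (hXi : ∀ i, IsAlgSpace (Xi i)) (sq : ∀ i, IsPullback (q i) (p i) f (g i))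
    (h : ∀ i, P (p i)) : P f :=
  (hP.h2 Yi g hY hYi ⟨hsm, hsurj⟩ f hX Xi p q hXi sq).2 h

/-- Precomposition with an etale morphism. -/
theorem Hyp.precomp (hP : Hyp P) {X Y Z : Sp S} (hX : IsAlgSpace X) (hY : IsAlgSpace Y)
    (hZ : IsAlgSpace Z) (f : X ⟶ Y) (g : Y ⟶ Z) (hf : IsEtaleMor f) (hg : P g) : P (f ≫ g) := by
  have key := hP.h1 (ι := Option PUnit.{u+1}) (X := Y) (fun o => o.elim Y (fun _ => X))
    (fun o => match o with
      | none => 𝟙 Y
      | some _ => f) hY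
    (fun o => match o with
      | none => hY
      | some _ => hX)
    ⟨fun o => match o with
      | none => isEtaleMor_id Y
      | some _ => hf, fun x => ⟨none, x, Points.map_id x⟩⟩ g hZ
  exact key.1 hg (some PUnit.unit)

/-- Base change along a smooth morphism. -/
theorem Hyp.baseChange (hP : Hyp P) {X Y X' Y' : Sp S} (hX : IsAlgSpace X) (hY : IsAlgSpace Y)
    (hX' : IsAlgSpace X') (hY' : IsAlgSpace Y') (f : X ⟶ Y) (g : Y' ⟶ Y) (f' : X' ⟶ Y')
    (g' : X' ⟶ X) (sq : IsPullback g' f' f g) (hg : LocP @Smooth g) (hf : P f) : P f' := by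
  have key := hP.h2 (ι := Option PUnit.{u+1}) (Y := Y) (fun o => o.elim Y (fun _ => Y'))
    (fun o => match o with
      | none => 𝟙 Y
      | some _ => g) hY
    (fun o => match o with
      | none => hY
      | some _ => hY')
    ⟨fun o => match o with
      | none => locP_smooth_id Y
      | some _ => hg, fun x => ⟨none, x, Points.map_id x⟩⟩ f hX
    (fun o => o.elim X (fun _ => X'))
    (fun o => match o with
      | none => f
      | some _ => f')
    (fun o => match o with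
      | none => 𝟙 X
      | some _ => g')
    (fun o => match o with
      | none => hX
      | some _ => hX')
    (fun o => match o with
      | none => (IsPullback.of_horiz_isIso (fst := 𝟙 X) (snd := f) (f := f) (g := 𝟙 Y) ⟨by simp⟩ :)
      | some _ => sq)
  exact key.1 hf (some PUnit.unit)

/-- A morphism from a space without points has `P`. -/
theorem Hyp.of_isEmpty (hP : Hyp P) {X Y : Sp S} (hX : IsAlgSpace X) (hY : IsAlgSpace Y)
    (f : X ⟶ Y) (hE : IsEmpty (Points X)) : P f :=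
  hP.src_local (ι := PEmpty.{u+1}) (fun i => i.elim) (fun i => i.elim) hX hY (fun i => i.elim)
    (fun i => i.elim) (fun x => (hE.false x).elim) f (fun i => i.elim)

/-- `P` holds at the point `x` of the source: some etale neighbourhood of `x` has `P` over `Y`. -/
def PAt (P : MorphismProperty (Sp S)) {X Y : Sp S} (f : X ⟶ Y) (x : Points X) : Prop :=
  ∃ (M : Sp S) (m : M ⟶ X), IsAlgSpace M ∧ IsEtaleMor m ∧ x ∈ Set.range (Points.map m) ∧
    P (m ≫ f)

theorem PAt.of_P {X Y : Sp S} (hX : IsAlgSpace X) (f : X ⟶ Y) (hf : P f) (x : Points X) :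
    PAt P f x :=
  ⟨X, 𝟙 X, hX, isEtaleMor_id X, ⟨x, Points.map_id x⟩, by rwa [Category.id_comp]⟩

/-- Glueing: if `P` holds at every point then it holds. -/
theorem Hyp.glue (hP : Hyp P) {X Y : Sp S} (hX : IsAlgSpace X) (hY : IsAlgSpace Y) (f : X ⟶ Y)
    (H : ∀ x, PAt P f x) : P f := by
  obtain ⟨U0, c0, -, hc0⟩ := hX.atlas
  choose M m hM hm hx hPm using H
  refine hP.src_local (ι := ↥U0.left) (fun u => M (Points.ofPt c0 u))
    (fun u => m (Points.ofPt c0 u)) hX hY (fun u => hM _) (fun u => hm _) (fun x => ?_) f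
    (fun u => hPm _)
  obtain ⟨u, rfl⟩ := Groth.Agent.H53.exists_ofPt_eq_of_repWith_surjective c0 hc0 x
  exact ⟨u, hx _⟩

end Groth.Agent.H53.ESL
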