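import Mathlib

/-!
# Enlarging a finite residue field by a standard etale extension
-/

set_option autoImplicit false
universe u

namespace Groth.Agent.H53.ESL

open Polynomial

/-- For a maximal ideal `𝔪` of `A` with finite residue field and any `d`, there is an etale
`A`-algebra `A'` with a ring map to a field whose kernel lies over `𝔪` and whose image has more
than `d` elements. -/
theorem exists_etale_ext {A : Type u} [CommRing A] (𝔪 : Ideal A) [h𝔪 : 𝔪.IsMaximal]
    [Finite (A ⧸ 𝔪)] (d : ℕ) :
    ∃ (A' : Type u) (_ : CommRing A') (_ : Algebra A A') (k' : Type) (_ : Field k')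
      (ev : A' →+* k'), Algebra.Etale A A' ∧
        RingHom.ker (ev.comp (algebraMap A A')) = 𝔪 ∧
        ∃ F : Finset A', d < F.card ∧ Set.InjOn ev (F : Set A') := by
  classical
  let k := A ⧸ 𝔪
  let _ : Field k := Ideal.Quotient.field 𝔪
  obtain ⟨p, hp⟩ := CharP.exists k
  have hpp : Fact p.Prime := ⟨CharP.char_is_prime k p⟩
  let k' := FiniteField.Extension k p (d + 1)
  obtain ⟨α, hα⟩ := Field.exists_primitive_element k k'
  have hint : IsIntegral k α := Algebra.IsIntegral.isIntegral α
  let fbar : k[X] := minpoly k α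
  have hfbar : fbar.Monic := minpoly.monic hint
  have hsep : fbar.Separable := Algebra.IsSeparable.isSeparable k α
  obtain ⟨f, hf1, -, hf3⟩ := Polynomial.lifts_and_degree_eq_and_monic
    (f := Ideal.Quotient.mk 𝔪) (p := fbar)
    ((Polynomial.mem_lifts _).2 (Polynomial.map_surjective _ Ideal.Quotient.mk_surjective fbar))
    hfbar
  let P : StandardEtalePair A := ⟨f, hf3, derivative f, ⟨1, 0, 1, by simp⟩⟩
  let _ : Algebra A k' := ((algebraMap k k').comp (Ideal.Quotient.mk 𝔪)).toAlgebra
  have _ : IsScalarTower A k k' := IsScalarTower.of_algebraMap_eq (fun _ => rfl)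
  have hmap : Polynomial.map (algebraMap A k) f = fbar := hf1
  have h1 : aeval α f = 0 := by
    rw [← Polynomial.aeval_map_algebraMap k, hmap]
    exact minpoly.aeval k α
  have h2 : IsUnit (aeval α (derivative f)) := by
    rw [← Polynomial.aeval_map_algebraMap k, ← Polynomial.derivative_map, hmap]
    exact (hsep.aeval_derivative_ne_zero (minpoly.aeval k α)).isUnit
  let ev : P.Ring →ₐ[A] k' := P.lift α ⟨h1, h2⟩
  have hevX : ev P.X = α := P.lift_X α _
  have hsurj : Function.Surjective ev := by
    intro y
    have hy : y ∈ Algebra.adjoin k {α} := by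
      rw [← IntermediateField.adjoin_simple_toSubalgebra_of_isAlgebraic hint.isAlgebraic, hα]
      trivial
    rw [Algebra.adjoin_singleton_eq_range_aeval] at hy
    obtain ⟨q, rfl⟩ := hy
    obtain ⟨q₀, rfl⟩ := Polynomial.map_surjective _ Ideal.Quotient.mk_surjective q
    refine ⟨aeval P.X q₀, ?_⟩
    rw [← Polynomial.aeval_algHom_apply, hevX]
    exact (Polynomial.aeval_map_algebraMap k α q₀).symm
  refine ⟨P.Ring, inferInstance, inferInstance, k', inferInstance, ev.toRingHom, inferInstance,
    ?_, ?_⟩
  · ext a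
    rw [RingHom.mem_ker]
    change ev (algebraMap A P.Ring a) = 0 ↔ a ∈ 𝔪
    rw [AlgHom.commutes]
    change algebraMap k k' (Ideal.Quotient.mk 𝔪 a) = 0 ↔ _
    rw [map_eq_zero, Ideal.Quotient.eq_zero_iff_mem]
  · have : Fintype k' := Fintype.ofFinite k'
    refine ⟨Finset.univ.image (Function.surjInv hsurj), ?_, ?_⟩
    · rw [Finset.card_image_of_injective _ (Function.injective_surjInv hsurj), Finset.card_univ,
        Fintype.card_eq_nat_card, FiniteField.natCard_extension]
      calc d < 2 ^ d := Nat.lt_two_pow_self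
        _ ≤ 2 ^ (d + 1) := Nat.pow_le_pow_right (by norm_num) (Nat.le_succ d)
        _ ≤ Nat.card k ^ (d + 1) := Nat.pow_le_pow_left Finite.one_lt_card _
    · intro a ha b hb hab
      simp only [Finset.coe_image, Finset.coe_univ, Set.image_univ, Set.mem_range] at ha hb
      obtain ⟨a, rfl⟩ := ha
      obtain ⟨b, rfl⟩ := hb
      change ev _ = ev _ at hab
      rw [Function.surjInv_eq hsurj, Function.surjInv_eq hsurj] at hab
      rw [hab]

end Groth.Agent.H53.ESL
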