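import Groth.Agent.H53.ESL.AffN2
import Groth.Agent.H53.ESL.EtExt

/-!
# The translation argument on affine space
-/

set_option autoImplicit false
universe u
open CategoryTheory CategoryTheory.Limits AlgebraicGeometry
open AlgSp

namespace Groth.Agent.H53.ESL

variable {S : Scheme.{u}} {P : MorphismProperty (Sp S)}

/-- A polynomial outside a prime `w` has a coefficient outside every prime `p` with the same
contraction to the coefficient ring. -/
theorem exists_coeff_notMem (n : ℕ) {B : CommRingCat.{u}} (h : MvPolynomial (Fin n) B)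
    (p₁ w₁ : Spec (.of (MvPolynomial (Fin n) B))) (hw : h ∉ w₁.asIdeal)
    (hpw : affProj n B p₁ = affProj n B w₁) :
    ∃ m : Fin n →₀ ℕ, MvPolynomial.C (h.coeff m) ∉ p₁.asIdeal := by
  by_contra hcon
  have hcon : ∀ m : Fin n →₀ ℕ, MvPolynomial.C (h.coeff m) ∈ p₁.asIdeal := by
    intro m
    by_contra hm
    exact hcon ⟨m, hm⟩
  have hq : p₁.asIdeal.comap (MvPolynomial.C (σ := Fin n)) =
      w₁.asIdeal.comap (MvPolynomial.C (σ := Fin n)) :=
    congrArg PrimeSpectrum.asIdeal hpw
  apply hw
  have : h ∈ Ideal.map (MvPolynomial.C (σ := Fin n))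
      (w₁.asIdeal.comap (MvPolynomial.C (σ := Fin n))) := by
    rw [MvPolynomial.mem_map_C_iff]
    intro m
    rw [← hq]
    exact hcon m
  exact Ideal.map_comap_le this

/-- The translation step: enough elements in the base ring. -/
theorem core_transl (hP : Hyp P) (n : ℕ) {A B : CommRingCat.{u}} (sA : Spec A ⟶ S) (φ : A ⟶ B)
    (sB : Spec B ⟶ S) (hs : Spec.map φ ≫ sA = sB) (h : MvPolynomial (Fin n) B)
    (hO : ∀ z : Spec (.of (MvPolynomial (Fin n) B)), h ∉ z.asIdeal →
      PAt P ((yon S).map (LO.map n φ sA sB hs)) (Points.schemeHomeo (LO n sB) z))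
    (p₁ : Spec (.of (MvPolynomial (Fin n) B))) (m : Fin n →₀ ℕ)
    (hm : MvPolynomial.C (h.coeff m) ∉ p₁.asIdeal) (F : Finset A)
    (hF : Set.InjOn (fun a : A => Ideal.Quotient.mk p₁.asIdeal (MvPolynomial.C (φ.hom a)))
      (F : Set A))
    (hcard : h.totalDegree < F.card) :
    PAt P ((yon S).map (LO.map n φ sA sB hs)) (Points.schemeHomeo (LO n sB) p₁) := by
  let _ : Algebra A B := φ.hom.toAlgebra
  obtain ⟨c, hc⟩ := exists_transl_notMem h p₁.asIdeal m hm F hF hcard
  have hz := hO (affTr n (fun i => φ.hom (c i)) p₁) hc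
  have sq : IsPullback ((yon S).map (LO.tr n sB (fun i => φ.hom (c i))))
      ((yon S).map (LO.map n φ sA sB hs)) ((yon S).map (LO.map n φ sA sB hs))
      ((yon S).map (LO.tr n sA c)) :=
    IsPullback.of_horiz_isIso ⟨by rw [← Functor.map_comp, ← Functor.map_comp, LO.tr_map]⟩
  refine PAt.baseChange hP (IsAlgSpace.yon_obj _) (IsAlgSpace.yon_obj _) (IsAlgSpace.yon_obj _)
    (IsAlgSpace.yon_obj _) sq
    (Groth.Agent.H53.locP_smooth_of_isEtaleMor _ (LO.isEtaleMor_tr n sA c)) _ ?_
  rw [Points.map_yon_map_apply]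
  exact hz

end Groth.Agent.H53.ESL

namespace Groth.Agent.H53.ESL

variable {S : Scheme.{u}} {P : MorphismProperty (Sp S)}

/-- If no large finite subset of `A` injects into `B[t]/p₁` then the contraction of `p₁` to `A`
is a maximal ideal with finite residue field. -/
theorem finite_quotient_of_not_big {A : Type u} [CommRing A] {D : Type u} [CommRing D] [IsDomain D]
    (g : A →+* D) (d : ℕ)
    (hno : ¬ ∃ F : Finset A, Set.InjOn g (F : Set A) ∧ d < F.card) :
    (RingHom.ker g).IsMaximal ∧ Finite (A ⧸ RingHom.ker g) := by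
  classical
  have hfin : Finite (A ⧸ RingHom.ker g) := by
    by_contra hinf
    rw [not_finite_iff_infinite] at hinf
    obtain ⟨T, hT⟩ := Infinite.exists_subset_card_eq (A ⧸ RingHom.ker g) (d + 1)
    apply hno
    refine ⟨T.image (Function.surjInv Ideal.Quotient.mk_surjective), ?_, ?_⟩
    · intro a ha b hb hab
      simp only [Finset.coe_image, Set.mem_image, Finset.mem_coe] at ha hb
      obtain ⟨a, -, rfl⟩ := ha
      obtain ⟨b, -, rfl⟩ := hb
      have h1 : Ideal.Quotient.mk (RingHom.ker g)
          (Function.surjInv Ideal.Quotient.mk_surjective a) =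
          Ideal.Quotient.mk (RingHom.ker g) (Function.surjInv Ideal.Quotient.mk_surjective b) := by
        rw [Ideal.Quotient.eq, RingHom.mem_ker, map_sub, sub_eq_zero]
        exact hab
      rw [Function.surjInv_eq Ideal.Quotient.mk_surjective a,
        Function.surjInv_eq Ideal.Quotient.mk_surjective b] at h1
      rw [h1]
    · rw [Finset.card_image_of_injective _ (Function.injective_surjInv _), hT]
      exact Nat.lt_succ_self d
  have hprime : (RingHom.ker g).IsPrime := RingHom.ker_isPrime g
  have : IsDomain (A ⧸ RingHom.ker g) := Ideal.Quotient.isDomain _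
  exact ⟨Ideal.Quotient.maximal_of_isField _ (Finite.isField_of_domain _), hfin⟩

end Groth.Agent.H53.ESL
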