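import Groth.Agent.H53.ESL.Core

/-!
# The translation argument on affine space, general case (finite residue fields)
-/

set_option autoImplicit false
universe u
open CategoryTheory CategoryTheory.Limits AlgebraicGeometry
open AlgSp

namespace Groth.Agent.H53.ESL

variable {S : Scheme.{u}} {P : MorphismProperty (Sp S)}

theorem core (hP : Hyp P) (n : ℕ) {A B : CommRingCat.{u}} (sA : Spec A ⟶ S) (φ : A ⟶ B)
    (sB : Spec B ⟶ S) (hs : Spec.map φ ≫ sA = sB) (h : MvPolynomial (Fin n) B)
    (hO : ∀ z : Spec (.of (MvPolynomial (Fin n) B)), h ∉ z.asIdeal →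
      PAt P ((yon S).map (LO.map n φ sA sB hs)) (Points.schemeHomeo (LO n sB) z))
    (p₁ w₁ : Spec (.of (MvPolynomial (Fin n) B))) (hw : h ∉ w₁.asIdeal)
    (hpw : affProj n B p₁ = affProj n B w₁) :
    PAt P ((yon S).map (LO.map n φ sA sB hs)) (Points.schemeHomeo (LO n sB) p₁) := by
  classical
  obtain ⟨m, hm⟩ := exists_coeff_notMem n h p₁ w₁ hw hpw
  let g : A →+* (MvPolynomial (Fin n) B ⧸ p₁.asIdeal) :=
    (Ideal.Quotient.mk p₁.asIdeal).comp ((MvPolynomial.C (σ := Fin n)).comp φ.hom)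
  by_cases hbig : ∃ F : Finset A, Set.InjOn g (F : Set A) ∧ h.totalDegree < F.card
  · obtain ⟨F, hF, hcard⟩ := hbig
    exact core_transl hP n sA φ sB hs h hO p₁ m hm F hF hcard
  · have : IsDomain (MvPolynomial (Fin n) B ⧸ p₁.asIdeal) := Ideal.Quotient.isDomain _
    obtain ⟨hmax, hfin⟩ := finite_quotient_of_not_big g h.totalDegree hbig
    obtain ⟨A', _, _, k', _, ev, hét, hker, F', hF'card, hF'inj⟩ :=
      exists_etale_ext (RingHom.ker g) h.totalDegree
    let A'c : CommRingCat.{u} := CommRingCat.of A'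
    let ψ : A ⟶ A'c := CommRingCat.ofHom (algebraMap A A')
    have hψ : Etale (Spec.map ψ) := by
      rw [HasRingHomProperty.Spec_iff (P := @Etale)]
      change (algebraMap A A').Etale
      rw [RingHom.etale_algebraMap]
      exact hét
    have hpo : IsPushout φ ψ (pushout.inl φ ψ) (pushout.inr φ ψ) := IsPushout.of_hasPushout φ ψ
    let B' : CommRingCat.{u} := pushout φ ψ
    let ι : B ⟶ B' := pushout.inl φ ψ
    let φ' : A'c ⟶ B' := pushout.inr φ ψ
    let sA' : Spec A'c ⟶ S := Spec.map ψ ≫ sA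
    let sB' : Spec B' ⟶ S := Spec.map φ' ≫ sA'
    have h3 : Spec.map ι ≫ sB = sB' := by
      change Spec.map ι ≫ sB = Spec.map φ' ≫ Spec.map ψ ≫ sA
      rw [← hs, ← Category.assoc, ← Category.assoc, ← Spec.map_comp, ← Spec.map_comp, hpo.w]
    have cube := LO.cube_yon n hpo sA sB sA' sB' hs rfl h3 rfl
    have hμA : IsEtaleMor ((yon S).map (LO.map n ψ sA sA' rfl)) :=
      LO.isEtaleMor_map n ψ sA sA' rfl hψ
    -- points
    let 𝔪' : Spec A'c := ⟨RingHom.ker ev, RingHom.ker_isPrime ev⟩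
    let x : Spec B := affProj n B p₁
    have hx𝔪 : Spec.map φ x = Spec.map ψ 𝔪' := by
      apply PrimeSpectrum.ext
      change Ideal.comap φ.hom (Ideal.comap (MvPolynomial.C (σ := Fin n)) p₁.asIdeal) =
        Ideal.comap (algebraMap A A') (RingHom.ker ev)
      rw [RingHom.comap_ker, hker]
      ext a
      simp only [Ideal.mem_comap, RingHom.mem_ker, g, RingHom.comp_apply,
        Ideal.Quotient.eq_zero_iff_mem]
    obtain ⟨x', hx'1, hx'2⟩ := exists_point_of_isPullback_scheme
      (isPullback_SpecMap_of_isPushout _ _ _ _ hpo) x 𝔪' hx𝔪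
    obtain ⟨p₁', hp1, hp2⟩ := exists_point_of_isPullback_scheme (isPullback_affMap n ι) p₁ x'
      hx'1.symm
    obtain ⟨w₁', hw1, hw2⟩ := exists_point_of_isPullback_scheme (isPullback_affMap n ι) w₁ x'
      (by rw [hx'1]; exact hpw.symm)
    let h' : MvPolynomial (Fin n) B' := MvPolynomial.map ι.hom h
    have hmem : ∀ z' : Spec (.of (MvPolynomial (Fin n) B')),
        h' ∉ z'.asIdeal → h ∉ (affMap n ι z').asIdeal := fun z' hz' => hz'
    have hO' : ∀ z' : Spec (.of (MvPolynomial (Fin n) B')), h' ∉ z'.asIdeal →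
        PAt P ((yon S).map (LO.map n φ' sA' sB' rfl)) (Points.schemeHomeo (LO n sB') z') := by
      intro z' hz'
      refine PAt.baseChange hP (IsAlgSpace.yon_obj _) (IsAlgSpace.yon_obj _)
        (IsAlgSpace.yon_obj _) (IsAlgSpace.yon_obj _) cube
        (Groth.Agent.H53.locP_smooth_of_isEtaleMor _ hμA) _ ?_
      rw [Points.map_yon_map_apply]
      exact hO _ (hmem z' hz')
    have hw' : h' ∉ w₁'.asIdeal := by
      intro hcon
      apply hw
      rw [← hw1]
      exact hcon
    obtain ⟨m', hm'⟩ := exists_coeff_notMem n h' p₁' w₁' hw' (hp2.trans hw2.symm)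
    have hF' : Set.InjOn (fun a : A'c => Ideal.Quotient.mk p₁'.asIdeal
        (MvPolynomial.C (φ'.hom a))) (F' : Set A') := by
      intro a ha b hb hab
      apply hF'inj ha hb
      have h1 : MvPolynomial.C (σ := Fin n) (φ'.hom (a - b)) ∈ p₁'.asIdeal := by
        rw [map_sub, map_sub]
        exact (Ideal.Quotient.eq).1 hab
      have h2 : a - b ∈ (Spec.map φ' (affProj n B' p₁')).asIdeal := h1
      rw [hp2, hx'2] at h2
      have h3 : ev (a - b) = 0 := h2
      rwa [map_sub, sub_eq_zero] at h3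
    have hdeg : h'.totalDegree < F'.card :=
      lt_of_le_of_lt (Finset.sup_mono (MvPolynomial.support_map_subset ι.hom h)) hF'card
    have key := core_transl hP n sA' φ' sB' rfl h' hO' p₁' m' hm' F' hF' hdeg
    have := PAt.descend hP (IsAlgSpace.yon_obj _) (IsAlgSpace.yon_obj _)
      (IsAlgSpace.yon_obj _) (IsAlgSpace.yon_obj _) cube hμA _ key
    rw [Points.map_yon_map_apply] at this
    have hp1' : (LO.map n ι sB sB' h3).left p₁' = p₁ := hp1
    rw [hp1'] at this
    exact this

end Groth.Agent.H53.ESL
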