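import Groth.Agent.H53.ESL.Basic
import Groth.Agent.H53.ZMT.DiagCompl
import Groth.Agent.H51.SpBasic

/-!
# Postcomposition with etale morphisms (affine case, by induction on the fibre degree)
-/

set_option autoImplicit false
universe u
open CategoryTheory CategoryTheory.Limits AlgebraicGeometry
open AlgSp

namespace Groth.Agent.H53.ESL

variable {S : Scheme.{u}} {P : MorphismProperty (Sp S)}

/-- A point of a sheaf represented by a field-valued point that factors through `m` lies in the
image of `m`. -/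
theorem mk_mem_range_of_fac {A B : Sp S} (m : A ⟶ B) (p : FieldPt B)
    (q : (yon S).obj p.pt ⟶ A) (hq : q ≫ m = p.toHom) :
    Points.mk p ∈ Set.range (Points.map m) := by
  refine ⟨Points.ofPt q (IsLocalRing.closedPoint p.K), ?_⟩
  rw [Points.map_ofPt, hq, Points.ofPt_toHom]

/-- A morphism from the spectrum of a field whose point lies in an open subscheme factors
through it. -/
theorem exists_fac_of_mem_opens {K : Type u} [Field K] {Z : Scheme.{u}}
    (ρ : Spec (CommRingCat.of K) ⟶ Z) (U : Z.Opens)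
    (h : ρ (IsLocalRing.closedPoint K) ∈ U) : ∃ ρ' : Spec (CommRingCat.of K) ⟶ ↑U, ρ' ≫ U.ι = ρ := by
  refine ⟨IsOpenImmersion.lift U.ι ρ ?_, IsOpenImmersion.lift_fac _ _ _⟩
  rintro _ ⟨z, rfl⟩
  rw [Scheme.Opens.range_ι]
  have : z = IsLocalRing.closedPoint K := Subsingleton.elim (α := PrimeSpectrum K) _ _
  rw [this]
  exact h

/-- A morphism from the spectrum of a field whose point lies in the range of an open immersion
factors through it. -/
theorem exists_fac_of_mem_range {K : Type u} [Field K] {Z Z' : Scheme.{u}}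
    (ρ : Spec (CommRingCat.of K) ⟶ Z) (j : Z' ⟶ Z) [IsOpenImmersion j]
    (h : ρ (IsLocalRing.closedPoint K) ∈ Set.range j) :
    ∃ ρ' : Spec (CommRingCat.of K) ⟶ Z', ρ' ≫ j = ρ := by
  refine ⟨IsOpenImmersion.lift j ρ ?_, IsOpenImmersion.lift_fac _ _ _⟩
  rintro _ ⟨z, rfl⟩
  have : z = IsLocalRing.closedPoint K := Subsingleton.elim (α := PrimeSpectrum K) _ _
  rw [this]
  exact h


open Groth.Agent.H53.ZMT in
theorem etPost_step (hP : Hyp P) (n : ℕ)
    (IH : ∀ (T T' : Over S), IsAffine T.left → IsAffine T'.left → ∀ (e : T' ⟶ T), Etale e.left →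
      DegLE e.left n → ∀ (X : Sp S), IsAlgSpace X → ∀ (f : X ⟶ (yon S).obj T'), P f →
        P (f ≫ (yon S).map e))
    (T T' : Over S) (hT : IsAffine T.left) (hT' : IsAffine T'.left) (e : T' ⟶ T)
    (he : Etale e.left) (hdeg : DegLE e.left (n + 1)) (X : Sp S) (hX : IsAlgSpace X)
    (f : X ⟶ (yon S).obj T') (hf : P f) : P (f ≫ (yon S).map e) := by
  -- the open image of `e`
  let R : T.left.Opens := ⟨Set.range e.left, e.left.isOpenMap.isOpen_range⟩
  let T₀ : Over S := Over.mk (R.ι ≫ T.hom)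
  let ι₀ : T₀ ⟶ T := Over.homMk R.ι rfl
  have hι₀ : IsOpenImmersion ι₀.left := inferInstanceAs (IsOpenImmersion R.ι)
  have hrange : Set.range e.left ⊆ Set.range R.ι := by
    rw [Scheme.Opens.range_ι]
    exact subset_rfl
  let e₀l : T'.left ⟶ T₀.left := IsOpenImmersion.lift R.ι e.left hrange
  have he₀l : e₀l ≫ R.ι = e.left := IsOpenImmersion.lift_fac _ _ _
  let e₀ : T' ⟶ T₀ := Over.homMk e₀l (by
    change e₀l ≫ R.ι ≫ T.hom = T'.hom
    rw [← Category.assoc, he₀l]
    exact Over.w e)
  have he₀ : e₀ ≫ ι₀ = e := by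
    ext1
    exact he₀l
  have hmono : Mono ι₀ := by
    refine ⟨fun {Z} a b hab => ?_⟩
    ext1
    have := congrArg (fun k => k.left) hab
    simp only [Over.comp_left] at this
    exact (cancel_mono ι₀.left).1 this
  have hee₀ : Etale e₀.left := by
    have h1 : Etale (e₀l ≫ R.ι) := by rw [he₀l]; exact he
    exact Etale.of_comp e₀l R.ι
  have hsurj₀ : Function.Surjective e₀.left := by
    intro t
    obtain ⟨t', ht'⟩ : (R.ι t) ∈ Set.range e.left := t.2
    refine ⟨t', R.ι.injective ?_⟩
    rw [← ht', ← he₀l]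
    rfl
  -- the complement of the diagonal
  obtain ⟨U, hUaff, hU⟩ := exists_compl_diagonal e.left
  let Uo : Over S := Over.mk (U.ι ≫ pullback.fst e.left e.left ≫ T'.hom)
  let a₁ : Uo ⟶ T' := Over.homMk (U.ι ≫ pullback.fst e.left e.left) (by simp [Uo])
  have hw2 : (U.ι ≫ pullback.snd e.left e.left) ≫ T'.hom = Uo.hom := by
    change _ = U.ι ≫ pullback.fst e.left e.left ≫ T'.hom
    rw [← Over.w e, Category.assoc, ← Category.assoc (pullback.snd e.left e.left),
      ← pullback.condition]
    simp only [Category.assoc]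
  let a₂ : Uo ⟶ T' := Over.homMk (U.ι ≫ pullback.snd e.left e.left) hw2
  have ha₁ : Etale a₁.left := by
    change Etale (U.ι ≫ pullback.fst e.left e.left)
    infer_instance
  have ha₂ : Etale a₂.left := by
    change Etale (U.ι ≫ pullback.snd e.left e.left)
    infer_instance
  have ha₁₂ : a₁ ≫ e₀ = a₂ ≫ e₀ := by
    rw [← cancel_mono ι₀, Category.assoc, Category.assoc, he₀]
    ext1
    change (U.ι ≫ pullback.fst e.left e.left) ≫ e.left = (U.ι ≫ pullback.snd e.left e.left) ≫ e.left
    rw [Category.assoc, Category.assoc, pullback.condition]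
  have hdeg₂ : DegLE a₂.left n := degLE_pred e.left n hdeg U (by
    rw [hU]
    exact disjoint_compl_left)
  -- the spaces
  have hYT' : IsAlgSpace ((yon S).obj T') := IsAlgSpace.yon_obj T'
  have hYT₀ : IsAlgSpace ((yon S).obj T₀) := IsAlgSpace.yon_obj T₀
  have hYT : IsAlgSpace ((yon S).obj T) := IsAlgSpace.yon_obj T
  have hYU : IsAlgSpace ((yon S).obj Uo) := IsAlgSpace.yon_obj Uo
  let g₀ : (yon S).obj T' ⟶ (yon S).obj T₀ := (yon S).map e₀
  have hg₀ : IsEtaleMor g₀ := (isEtaleMor_yon_map_iff e₀).2 hee₀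
  let f₀ : X ⟶ (yon S).obj T₀ := f ≫ g₀
  have sq₁ : IsPullback (pullback.fst f₀ g₀) (pullback.snd f₀ g₀) f₀ g₀ :=
    IsPullback.of_hasPullback f₀ g₀
  have hX₁ : IsAlgSpace (pullback f₀ g₀) :=
    Groth.Agent.H49.isAlgSpace_of_isPullback sq₁ hYT₀.diag hX hYT'
  -- first piece: the graph
  let γ : X ⟶ pullback f₀ g₀ := sq₁.lift (𝟙 X) f (by simp [f₀])
  have hγ1 : γ ≫ pullback.fst f₀ g₀ = 𝟙 X := sq₁.lift_fst _ _ _
  have hγ2 : γ ≫ pullback.snd f₀ g₀ = f := sq₁.lift_snd _ _ _
  have hγ : IsEtaleMor γ := isEtaleMor_graph hX hYT' hYT₀ f g₀ hg₀ sq₁ γ hγ1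
  -- second piece
  have hga₁ : IsEtaleMor ((yon S).map a₁) := (isEtaleMor_yon_map_iff a₁).2 ha₁
  have sqU : IsPullback (pullback.fst f ((yon S).map a₁)) (pullback.snd f ((yon S).map a₁)) f
      ((yon S).map a₁) := IsPullback.of_hasPullback _ _
  have hXU : IsAlgSpace (pullback f ((yon S).map a₁)) :=
    Groth.Agent.H49.isAlgSpace_of_isPullback sqU hYT'.diag hX hYU
  have hPU : P (pullback.snd f ((yon S).map a₁)) :=
    hP.baseChange hX hYT' hXU hYU f ((yon S).map a₁) _ _ sqU
      (locP_smooth_of_isEtaleMor _ hga₁) hf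
  have hPU₂ : P (pullback.snd f ((yon S).map a₁) ≫ (yon S).map a₂) :=
    IH T' Uo hT' hUaff a₂ ha₂ hdeg₂ _ hXU _ hPU
  have hδw : pullback.fst f ((yon S).map a₁) ≫ f₀ =
      (pullback.snd f ((yon S).map a₁) ≫ (yon S).map a₂) ≫ g₀ := by
    change pullback.fst f ((yon S).map a₁) ≫ f ≫ (yon S).map e₀ = _
    rw [← Category.assoc, sqU.w, Category.assoc, Category.assoc, ← Functor.map_comp,
      ← Functor.map_comp, ha₁₂]
  let δ : pullback f ((yon S).map a₁) ⟶ pullback f₀ g₀ := sq₁.lift _ _ hδw
  have hδ1 : δ ≫ pullback.fst f₀ g₀ = pullback.fst f ((yon S).map a₁) := sq₁.lift_fst _ _ _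
  have hδ2 : δ ≫ pullback.snd f₀ g₀ = pullback.snd f ((yon S).map a₁) ≫ (yon S).map a₂ :=
    sq₁.lift_snd _ _ _
  have hfst₁ : IsEtaleMor (pullback.fst f₀ g₀) :=
    isEtaleMor_of_isPullback hYT' hYT₀ hX sq₁.flip hg₀
  have hfstU : IsEtaleMor (pullback.fst f ((yon S).map a₁)) :=
    isEtaleMor_of_isPullback hYU hYT' hX sqU.flip hga₁
  have hδ : IsEtaleMor δ := isEtaleMor_of_comp hX₁ δ _ hfst₁ (by rw [hδ1]; exact hfstU)
  -- the two pieces cover
  have hcov : ∀ z : Points (pullback f₀ g₀),
      z ∈ Set.range (Points.map γ) ∨ z ∈ Set.range (Points.map δ) := by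
    intro z
    induction z using Points.ind with
    | h p =>
    obtain ⟨σ, hσ⟩ := (yon S).map_surjective (p.toHom ≫ pullback.fst f₀ g₀ ≫ f)
    obtain ⟨τ, hτ⟩ := (yon S).map_surjective (p.toHom ≫ pullback.snd f₀ g₀)
    have hστ : σ ≫ e₀ = τ ≫ e₀ := by
      apply (yon S).map_injective
      rw [Functor.map_comp, Functor.map_comp, hσ, hτ]
      change (p.toHom ≫ pullback.fst f₀ g₀ ≫ f) ≫ g₀ = (p.toHom ≫ pullback.snd f₀ g₀) ≫ g₀
      simp only [Category.assoc]
      rw [← sq₁.w]
    have hστl : σ.left ≫ e.left = τ.left ≫ e.left := by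
      have h1 : σ ≫ e = τ ≫ e := by rw [← he₀, ← Category.assoc, hστ, Category.assoc]
      exact congrArg (fun k => k.left) h1
    let ρ : Spec (CommRingCat.of p.K) ⟶ pullback e.left e.left :=
      pullback.lift σ.left τ.left hστl
    have hρ1 : ρ ≫ pullback.fst e.left e.left = σ.left := pullback.lift_fst _ _ _
    have hρ2 : ρ ≫ pullback.snd e.left e.left = τ.left := pullback.lift_snd _ _ _
    by_cases hρ : ρ (IsLocalRing.closedPoint p.K) ∈ U
    · right
      obtain ⟨ρ', hρ'⟩ := exists_fac_of_mem_opens ρ U hρ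
      let ρU : p.pt ⟶ Uo := Over.homMk ρ' (by
        change ρ' ≫ U.ι ≫ pullback.fst e.left e.left ≫ T'.hom = p.str
        rw [← Category.assoc, hρ', ← Category.assoc, hρ1]
        exact Over.w σ)
      have hρU1 : ρU ≫ a₁ = σ := by
        ext1
        change ρ' ≫ U.ι ≫ pullback.fst e.left e.left = σ.left
        rw [← Category.assoc, hρ', hρ1]
      have hρU2 : ρU ≫ a₂ = τ := by
        ext1
        change ρ' ≫ U.ι ≫ pullback.snd e.left e.left = τ.left
        rw [← Category.assoc, hρ', hρ2]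
      let ζ : (yon S).obj p.pt ⟶ pullback f ((yon S).map a₁) :=
        sqU.lift (p.toHom ≫ pullback.fst f₀ g₀) ((yon S).map ρU) (by
          rw [← Functor.map_comp, hρU1, hσ, Category.assoc])
      have hζ : ζ ≫ δ = p.toHom := by
        apply sq₁.hom_ext
        · rw [Category.assoc, hδ1, sqU.lift_fst]
        · rw [Category.assoc, hδ2, ← Category.assoc, sqU.lift_snd, ← Functor.map_comp, hρU2, hτ]
      exact mk_mem_range_of_fac δ p ζ hζ
    · left
      have hρΔ : ρ (IsLocalRing.closedPoint p.K) ∈ Set.range (pullback.diagonal e.left) := by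
        by_contra hcon
        apply hρ
        change ρ (IsLocalRing.closedPoint p.K) ∈ (U : Set ↥(pullback e.left e.left))
        rw [hU]
        exact hcon
      have hΔoi : IsOpenImmersion (pullback.diagonal e.left) := inferInstance
      obtain ⟨s, hs⟩ := exists_fac_of_mem_range ρ (pullback.diagonal e.left) hρΔ
      have h1 : σ.left = s := by
        rw [← hρ1, ← hs, Category.assoc, pullback.diagonal_fst, Category.comp_id]
      have h2 : τ.left = s := by
        rw [← hρ2, ← hs, Category.assoc, pullback.diagonal_snd, Category.comp_id]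
      have hστ' : σ = τ := by
        ext1
        rw [h1, h2]
      have hζ : (p.toHom ≫ pullback.fst f₀ g₀) ≫ γ = p.toHom := by
        apply sq₁.hom_ext
        · rw [Category.assoc, hγ1, Category.comp_id]
        · rw [Category.assoc, hγ2, Category.assoc, ← hσ, hστ', hτ]
      exact mk_mem_range_of_fac γ p _ hζ
  -- `P` for the base change
  have hP₁ : P (pullback.snd f₀ g₀) := by
    refine hP.src_local (ι := Option PUnit.{u+1})
      (fun o => o.elim X (fun _ => pullback f ((yon S).map a₁)))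
      (fun o => match o with
        | none => γ
        | some _ => δ) hX₁ hYT'
      (fun o => match o with
        | none => hX
        | some _ => hXU)
      (fun o => match o with
        | none => hγ
        | some _ => hδ)
      (fun z => ?_) _
      (fun o => match o with
        | none => by
          change P (γ ≫ pullback.snd f₀ g₀)
          rw [hγ2]; exact hf
        | some _ => by
          change P (δ ≫ pullback.snd f₀ g₀)
          rw [hδ2]; exact hPU₂)
    rcases hcov z with h | h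
    · exact ⟨none, h⟩
    · exact ⟨some PUnit.unit, h⟩
  -- descend along the etale cover `T' ⟶ T₀`
  have hP₀ : P f₀ := by
    refine hP.base_local (ι := PUnit.{u+1}) (fun _ => (yon S).obj T') (fun _ => g₀) hX hYT₀
      (fun _ => hYT') (fun _ => locP_smooth_of_isEtaleMor _ hg₀) (fun y => ?_) f₀
      (fun _ => pullback f₀ g₀) (fun _ => pullback.snd f₀ g₀) (fun _ => pullback.fst f₀ g₀)
      (fun _ => hX₁) (fun _ => sq₁) (fun _ => hP₁)
    obtain ⟨t, rfl⟩ := (Points.schemeHomeo T₀).surjective y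
    obtain ⟨t', rfl⟩ := hsurj₀ t
    exact ⟨PUnit.unit, Points.schemeHomeo T' t', Points.map_yon_map_apply e₀ t'⟩
  -- postcompose with the open immersion
  have h3 := hP.h3 hX hYT₀ hYT f₀ ((yon S).map ι₀) hP₀
    ((repWith_yon_map_iff @IsOpenImmersion ι₀).2 hι₀)
  have : f ≫ (yon S).map e = f₀ ≫ (yon S).map ι₀ := by
    change _ = (f ≫ (yon S).map e₀) ≫ (yon S).map ι₀
    rw [Category.assoc, ← Functor.map_comp, he₀]
  rw [this]
  exact h3

/-- A sheaf mapping to the sheaf of an empty scheme has no points. -/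
theorem isEmpty_points_of_hom_yon_empty {X : Sp S} {T : Over S} (f : X ⟶ (yon S).obj T)
    (hT : IsEmpty ↥T.left) : IsEmpty (Points X) :=
  ⟨fun x => hT.false ((Points.schemeHomeo T).symm (Points.map f x))⟩

open Groth.Agent.H53.ZMT in
/-- Postcomposition with an etale morphism of affine schemes of bounded fibre degree. -/
theorem etPost_affine_deg (hP : Hyp P) : ∀ (n : ℕ) (T T' : Over S), IsAffine T.left →
    IsAffine T'.left → ∀ (e : T' ⟶ T), Etale e.left → DegLE e.left n → ∀ (X : Sp S),
    IsAlgSpace X → ∀ (f : X ⟶ (yon S).obj T'), P f → P (f ≫ (yon S).map e) := by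
  intro n
  induction n with
  | zero =>
    intro T T' hT hT' e he hdeg X hX f hf
    exact hP.of_isEmpty hX (IsAlgSpace.yon_obj T) _
      (isEmpty_points_of_hom_yon_empty f (isEmpty_of_degLE_zero hdeg))
  | succ n IH =>
    intro T T' hT hT' e he hdeg X hX f hf
    exact etPost_step hP n IH T T' hT hT' e he hdeg X hX f hf

/-- Postcomposition with an etale morphism of affine schemes. -/
theorem etPost_affine (hP : Hyp P) {T T' : Over S} (hT : IsAffine T.left) (hT' : IsAffine T'.left)
    (e : T' ⟶ T) (he : Etale e.left) {X : Sp S} (hX : IsAlgSpace X) (f : X ⟶ (yon S).obj T')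
    (hf : P f) : P (f ≫ (yon S).map e) := by
  obtain ⟨n, hn⟩ := Groth.Agent.H53.ZMT.exists_degLE_of_etale e.left
  exact etPost_affine_deg hP n T T' hT hT' e he hn X hX f hf

end Groth.Agent.H53.ESL
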