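import Groth.Agent.H53.ESL.EtPost
import Groth.Agent.H53.InfNbhd

/-!
# Postcomposition with etale morphisms of algebraic spaces
-/

set_option autoImplicit false
universe u
open CategoryTheory CategoryTheory.Limits AlgebraicGeometry
open AlgSp

namespace Groth.Agent.H53.ESL

variable {S : Scheme.{u}} {P : MorphismProperty (Sp S)}

theorem isEtaleMor_of_repWith' {F G : Sp S} {f : F ⟶ G} (hf : RepWith @Etale f) : IsEtaleMor f :=
  fun _ _ hφ => (RepWith @Etale).comp_mem _ _ hφ hf

/-- A jointly surjective family of affine etale charts. -/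
theorem exists_affine_chart_family {F : Sp S} (hF : IsAlgSpace F) :
    ∃ (ι : Type u) (Z : ι → Over S) (g : ∀ i, (yon S).obj (Z i) ⟶ F),
      (∀ i, IsAffine (Z i).left) ∧ (∀ i, RepWith @Etale (g i)) ∧
        ∀ x : Points F, ∃ i, x ∈ Set.range (Points.map (g i)) := by
  obtain ⟨U₀, c₀, -, hc₀⟩ := hF.atlas
  choose Z g z hZ hg hz using fun u : ↥U₀.left =>
    Groth.Agent.H53.exists_affine_chart_through hF (Points.ofPt c₀ u)
  refine ⟨↥U₀.left, Z, g, hZ, hg, fun x => ?_⟩
  obtain ⟨u, rfl⟩ := Groth.Agent.H53.exists_ofPt_eq_of_repWith_surjective c₀ hc₀ x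
  refine ⟨u, Points.ofScheme (Z u) (z u), ?_⟩
  rw [← Points.ofPt_eq_map_ofScheme, hz]

/-- Postcomposition with an etale morphism of algebraic spaces. -/
theorem etPost (hP : Hyp P) {X Y Z : Sp S} (hX : IsAlgSpace X) (hY : IsAlgSpace Y)
    (hZ : IsAlgSpace Z) (f : X ⟶ Y) (π : Y ⟶ Z) (hπ : IsEtaleMor π) (hf : P f) : P (f ≫ π) := by
  obtain ⟨ι, V, c, hV, hc, hcs⟩ := exists_affine_chart_family hZ
  have hYV : ∀ i, IsAlgSpace ((yon S).obj (V i)) := fun i => IsAlgSpace.yon_obj _
  -- the base changes of `Y` and `X`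
  have sqY : ∀ i, IsPullback (pullback.fst π (c i)) (pullback.snd π (c i)) π (c i) :=
    fun i => IsPullback.of_hasPullback _ _
  have hYi : ∀ i, IsAlgSpace (pullback π (c i)) := fun i =>
    Groth.Agent.H49.isAlgSpace_of_isPullback (sqY i) hZ.diag hY (hYV i)
  have hysnd : ∀ i, IsEtaleMor (pullback.snd π (c i)) := fun i =>
    isEtaleMor_of_isPullback hY hZ (hYV i) (sqY i) hπ
  have hyfst : ∀ i, IsEtaleMor (pullback.fst π (c i)) := fun i =>
    isEtaleMor_of_isPullback (hYV i) hZ hY (sqY i).flip (isEtaleMor_of_repWith' (hc i))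
  have sqX : ∀ i, IsPullback (pullback.fst f (pullback.fst π (c i)))
      (pullback.snd f (pullback.fst π (c i))) f (pullback.fst π (c i)) :=
    fun i => IsPullback.of_hasPullback _ _
  have hXi : ∀ i, IsAlgSpace (pullback f (pullback.fst π (c i))) := fun i =>
    Groth.Agent.H49.isAlgSpace_of_isPullback (sqX i) hY.diag hX (hYi i)
  have sqXZ : ∀ i, IsPullback (pullback.fst f (pullback.fst π (c i)))
      (pullback.snd f (pullback.fst π (c i)) ≫ pullback.snd π (c i)) (f ≫ π) (c i) :=
    fun i => (sqX i).paste_vert (sqY i)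
  refine hP.base_local (fun i => (yon S).obj (V i)) c hX hZ hYV
    (fun i => locP_smooth_of_isEtaleMor _ (isEtaleMor_of_repWith' (hc i))) hcs (f ≫ π)
    (fun i => pullback f (pullback.fst π (c i))) _ _ hXi sqXZ (fun i => ?_)
  -- fix `i`; charts of `Y_i`
  obtain ⟨κ, V', d, hV', hd, hds⟩ := exists_affine_chart_family (hYi i)
  have hYV' : ∀ j, IsAlgSpace ((yon S).obj (V' j)) := fun j => IsAlgSpace.yon_obj _
  have sqA : ∀ j, IsPullback (pullback.fst (pullback.snd f (pullback.fst π (c i))) (d j))
      (pullback.snd (pullback.snd f (pullback.fst π (c i))) (d j))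
      (pullback.snd f (pullback.fst π (c i))) (d j) := fun j => IsPullback.of_hasPullback _ _
  have hXij : ∀ j, IsAlgSpace (pullback (pullback.snd f (pullback.fst π (c i))) (d j)) := fun j =>
    Groth.Agent.H49.isAlgSpace_of_isPullback (sqA j) (hYi i).diag (hXi i) (hYV' j)
  have hafst : ∀ j, IsEtaleMor (pullback.fst (pullback.snd f (pullback.fst π (c i))) (d j)) :=
    fun j => isEtaleMor_of_isPullback (hYV' j) (hYi i) (hXi i) (sqA j).flip
      (isEtaleMor_of_repWith' (hd j))
  refine hP.src_local (fun j => pullback (pullback.snd f (pullback.fst π (c i))) (d j))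
    (fun j => pullback.fst _ _) (hXi i) (hYV i) hXij hafst (fun x => ?_) _ (fun j => ?_)
  · obtain ⟨j, v', hv'⟩ := hds (Points.map (pullback.snd f (pullback.fst π (c i))) x)
    obtain ⟨z, hz, -⟩ := Groth.Agent.H53.exists_point_of_isPullback (sqA j) x v' hv'.symm
    exact ⟨j, z, hz⟩
  · -- the chart morphism
    have hde : RepWith @Etale (d j ≫ pullback.snd π (c i)) := hysnd i (d j) (hd j)
    obtain ⟨e, he⟩ := (yon S).map_surjective (d j ≫ pullback.snd π (c i))
    have hee : Etale e.left := by
      rw [← he] at hde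
      exact (repWith_yon_map_iff @Etale e).1 hde
    have hdy : RepWith @Etale (d j ≫ pullback.fst π (c i)) := hyfst i (d j) (hd j)
    have sqB : IsPullback
        (pullback.fst (pullback.snd f (pullback.fst π (c i))) (d j) ≫
          pullback.fst f (pullback.fst π (c i)))
        (pullback.snd (pullback.snd f (pullback.fst π (c i))) (d j)) f
        (d j ≫ pullback.fst π (c i)) := (sqA j).paste_horiz (sqX i)
    have hPa : P (pullback.snd (pullback.snd f (pullback.fst π (c i))) (d j)) :=
      hP.baseChange hX hY (hXij j) (hYV' j) f _ _ _ sqB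
        (locP_smooth_of_isEtaleMor _ (isEtaleMor_of_repWith' hdy)) hf
    have := etPost_affine hP (hV i) (hV' j) e hee (hXij j) _ hPa
    rw [he] at this
    have heq : pullback.fst (pullback.snd f (pullback.fst π (c i))) (d j) ≫
        pullback.snd f (pullback.fst π (c i)) ≫ pullback.snd π (c i) =
        pullback.snd (pullback.snd f (pullback.fst π (c i))) (d j) ≫ d j ≫ pullback.snd π (c i) := by
      rw [← Category.assoc, (sqA j).w, Category.assoc]
    rw [heq]
    exact this

end Groth.Agent.H53.ESL
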