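import Groth.Agent.H53.ESL.Core2

/-!
# Descent of `PAt` along the projection from affine space over an affine base (affine source)
-/

set_option autoImplicit false
universe u
open CategoryTheory CategoryTheory.Limits AlgebraicGeometry
open AlgSp

namespace Groth.Agent.H53.ESL

variable {S : Scheme.{u}} {P : MorphismProperty (Sp S)}

theorem m1 (hP : Hyp P) (n : ℕ) {A B : CommRingCat.{u}} (sA : Spec A ⟶ S) (φ : A ⟶ B)
    (sB : Spec B ⟶ S) (hs : Spec.map φ ≫ sA = sB) (w : Points ((yon S).obj (LO n sB)))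
    (hw : PAt P ((yon S).map (LO.map n φ sA sB hs)) w) :
    PAt P ((yon S).map (TOmap φ sA sB hs)) (Points.map ((yon S).map (LO.proj n sB)) w) := by
  obtain ⟨M₀, m₀, hM₀, hm₀, ⟨z₀, hz₀⟩, hPm₀⟩ := hw
  obtain ⟨w₀, rfl⟩ := (Points.schemeHomeo (LO n sB)).surjective w
  -- the open set of good points
  let O : Set (Spec (.of (MvPolynomial (Fin n) B))) :=
    {z | Points.schemeHomeo (LO n sB) z ∈ Set.range (Points.map m₀)}
  have hOopen : IsOpen O :=
    (Groth.Agent.H51.isOpenMap_map_of_isEtaleMor m₀ hM₀ hm₀).isOpen_range.preimage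
      (Points.schemeHomeo (LO n sB)).continuous
  have hOP : ∀ z ∈ O, PAt P ((yon S).map (LO.map n φ sA sB hs))
      (Points.schemeHomeo (LO n sB) z) := fun z hz => ⟨M₀, m₀, hM₀, hm₀, hz, hPm₀⟩
  have hw₀ : w₀ ∈ O := ⟨z₀, hz₀⟩
  -- its image in `Spec B`
  have hsm : Smooth (affProj n B) := smooth_affProj n B
  have hUopen : IsOpen (affProj n B '' O) := (affProj n B).isOpenMap _ hOopen
  obtain ⟨_, ⟨g, rfl⟩, hxg, hgU⟩ := PrimeSpectrum.isTopologicalBasis_basic_opens
    |>.exists_subset_of_mem_open (Set.mem_image_of_mem _ hw₀) hUopen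
  let Bg : CommRingCat.{u} := CommRingCat.of (Localization.Away g)
  let ιg : B ⟶ Bg := CommRingCat.ofHom (algebraMap B (Localization.Away g))
  have hιg : IsOpenImmersion (Spec.map ιg) := inferInstance
  have hrange : Set.range (Spec.map ιg) = (PrimeSpectrum.basicOpen g : Set (PrimeSpectrum B)) :=
    PrimeSpectrum.localization_away_comap_range _ g
  let sBg : Spec Bg ⟶ S := Spec.map ιg ≫ sB
  have hlg : IsEtaleMor ((yon S).map (LO.map n ιg sB sBg rfl)) :=
    LO.isEtaleMor_map n ιg sB sBg rfl inferInstance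
  -- `P` for the affine space over the basic open
  have hPL : P ((yon S).map (LO.map n ιg sB sBg rfl) ≫ (yon S).map (LO.map n φ sA sB hs)) := by
    refine hP.glue (IsAlgSpace.yon_obj _) (IsAlgSpace.yon_obj _) _ (fun p' => ?_)
    obtain ⟨p'₀, rfl⟩ := (Points.schemeHomeo (LO n sBg)).surjective p'
    refine PAt.precomp hP (IsAlgSpace.yon_obj _) (IsAlgSpace.yon_obj _) (IsAlgSpace.yon_obj _)
      _ hlg _ _ ?_
    rw [Points.map_yon_map_apply]
    let p₁ : Spec (.of (MvPolynomial (Fin n) B)) := affMap n ιg p'₀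
    have hp₁ : affProj n B p₁ ∈ (PrimeSpectrum.basicOpen g : Set (PrimeSpectrum B)) := by
      rw [← hrange]
      refine ⟨affProj n Bg p'₀, ?_⟩
      rw [← Scheme.Hom.comp_apply, ← Scheme.Hom.comp_apply, affMap_proj]
    obtain ⟨w₁, hw₁O, hw₁⟩ := hgU hp₁
    obtain ⟨_, ⟨h, rfl⟩, hw₁h, hhO⟩ := PrimeSpectrum.isTopologicalBasis_basic_opens
      |>.exists_subset_of_mem_open hw₁O hOopen
    exact core hP n sA φ sB hs h (fun z hz => hOP z (hhO hz)) p₁ w₁ hw₁h hw₁.symm
  -- descend along the smooth cover by affine space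
  have sq : IsPullback ((yon S).map (LO.proj n sBg))
      ((yon S).map (LO.map n ιg sB sBg rfl) ≫ (yon S).map (LO.map n φ sA sB hs))
      ((yon S).map (TOmap ιg sB sBg rfl) ≫ (yon S).map (TOmap φ sA sB hs))
      ((yon S).map (LO.proj n sA)) :=
    ((LO.isPullback_yon n ιg sB sBg rfl).paste_horiz (LO.isPullback_yon n φ sA sB hs)).flip
  have hPT : P ((yon S).map (TOmap ιg sB sBg rfl) ≫ (yon S).map (TOmap φ sA sB hs)) :=
    hP.base_local (ι := PUnit.{u+1}) (fun _ => (yon S).obj (LO n sA))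
      (fun _ => (yon S).map (LO.proj n sA)) (IsAlgSpace.yon_obj _) (IsAlgSpace.yon_obj _)
      (fun _ => IsAlgSpace.yon_obj _) (fun _ => LO.locP_smooth_proj n sA)
      (fun y => ⟨PUnit.unit, LO.surjective_proj n sA y⟩) _ (fun _ => (yon S).obj (LO n sBg))
      (fun _ => (yon S).map (LO.map n ιg sB sBg rfl) ≫ (yon S).map (LO.map n φ sA sB hs))
      (fun _ => (yon S).map (LO.proj n sBg)) (fun _ => IsAlgSpace.yon_obj _) (fun _ => sq)
      (fun _ => hPL)
  -- conclusion
  refine ⟨(yon S).obj (Over.mk sBg), (yon S).map (TOmap ιg sB sBg rfl), IsAlgSpace.yon_obj _,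
    (isEtaleMor_yon_map_iff _).2 (show Etale (Spec.map ιg) from inferInstance), ?_, hPT⟩
  rw [Points.map_yon_map_apply]
  have hx : affProj n B w₀ ∈ Set.range (Spec.map ιg) := by
    rw [hrange]
    exact hxg
  obtain ⟨x₀, hx₀⟩ := hx
  refine ⟨Points.schemeHomeo (Over.mk sBg) x₀, ?_⟩
  rw [Points.map_yon_map_apply]
  exact congrArg _ hx₀

end Groth.Agent.H53.ESL
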