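import Groth.Agent.H53.ESL.M1

/-!
# Descent of `PAt` along the projection from affine space over an affine base (general source)
-/

set_option autoImplicit false
universe u
open CategoryTheory CategoryTheory.Limits AlgebraicGeometry
open AlgSp

namespace Groth.Agent.H53.ESL

variable {S : Scheme.{u}} {P : MorphismProperty (Sp S)}

/-- Through every point of an algebraic space there is an etale chart of the form `Spec B`. -/
theorem exists_spec_chart_through {U : Sp S} (hU : IsAlgSpace U) (x : Points U) :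
    ∃ (B : CommRingCat.{u}) (sB : Spec B ⟶ S) (β : (yon S).obj (Over.mk sB) ⟶ U) (q : Spec B),
      RepWith @Etale β ∧ Points.ofPt β q = x := by
  obtain ⟨Q, β, q, hQ, hβ, hq⟩ := Groth.Agent.H53.exists_affine_chart_through hU x
  let e : Over.mk (Q.left.isoSpec.inv ≫ Q.hom) ⟶ Q := Over.homMk Q.left.isoSpec.inv rfl
  refine ⟨Γ(Q.left, ⊤), Q.left.isoSpec.inv ≫ Q.hom, (yon S).map e ≫ β, Q.left.isoSpec.hom q,
    Groth.Agent.H53.repWith_etale_map_comp e
      (show Etale Q.left.isoSpec.inv from inferInstance) β hβ, ?_⟩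
  rw [Groth.Agent.H53.ofPt_yon_map_comp, ← hq]
  congr 1
  change Q.left.isoSpec.inv (Q.left.isoSpec.hom q) = q
  rw [← Scheme.Hom.comp_apply, Iso.hom_inv_id]
  rfl

/-- Morphisms between representables by spectra come from ring maps. -/
theorem exists_TOmap_eq {A B : CommRingCat.{u}} (sA : Spec A ⟶ S) (sB : Spec B ⟶ S)
    (t : (yon S).obj (Over.mk sB) ⟶ (yon S).obj (Over.mk sA)) :
    ∃ (φ : A ⟶ B) (hs : Spec.map φ ≫ sA = sB), t = (yon S).map (TOmap φ sA sB hs) := by
  obtain ⟨θ, rfl⟩ := (yon S).map_surjective t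
  have hs : Spec.map (Spec.preimage θ.left) ≫ sA = sB := by
    rw [Spec.map_preimage]
    exact Over.w θ
  refine ⟨Spec.preimage θ.left, hs, congrArg _ (Over.OverMorphism.ext ?_)⟩
  exact (Spec.map_preimage θ.left).symm

theorem m2 (hP : Hyp P) (n : ℕ) {A : CommRingCat.{u}} (sA : Spec A ⟶ S) {X W : Sp S}
    (hX : IsAlgSpace X) (hW : IsAlgSpace W) {f : X ⟶ (yon S).obj (Over.mk sA)} {p : W ⟶ X}
    {q : W ⟶ (yon S).obj (LO n sA)} (sq : IsPullback p q f ((yon S).map (LO.proj n sA)))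
    (w : Points W) (hw : PAt P q w) : PAt P f (Points.map p w) := by
  obtain ⟨B, sB, β, x₀, hβ, hx₀⟩ := exists_spec_chart_through hX (Points.map p w)
  obtain ⟨φ, hs, hφ⟩ := exists_TOmap_eq sA sB (β ≫ f)
  have hβe : IsEtaleMor β := isEtaleMor_of_repWith' hβ
  -- the map `A^n_B ⟶ W`
  have hcomm : ((yon S).map (LO.proj n sB) ≫ β) ≫ f =
      (yon S).map (LO.map n φ sA sB hs) ≫ (yon S).map (LO.proj n sA) := by
    rw [Category.assoc, hφ]
    exact (LO.isPullback_yon n φ sA sB hs).w.symm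
  let l : (yon S).obj (LO n sB) ⟶ W := sq.lift _ _ hcomm
  have hl1 : l ≫ p = (yon S).map (LO.proj n sB) ≫ β := sq.lift_fst _ _ hcomm
  have hl2 : l ≫ q = (yon S).map (LO.map n φ sA sB hs) := sq.lift_snd _ _ hcomm
  have outer : IsPullback (l ≫ q) ((yon S).map (LO.proj n sB)) ((yon S).map (LO.proj n sA))
      (β ≫ f) := by
    rw [hl2, hφ]
    exact LO.isPullback_yon n φ sA sB hs
  have sql : IsPullback l ((yon S).map (LO.proj n sB)) p β :=
    IsPullback.of_right outer hl1 sq.flip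
  have hle : IsEtaleMor l :=
    isEtaleMor_of_isPullback (IsAlgSpace.yon_obj _) hX hW sql.flip hβe
  -- the point
  have hpt : Points.map p w = Points.map β (Points.schemeHomeo (Over.mk sB) x₀) := by
    rw [← hx₀, Points.ofPt_eq_map_ofScheme]
    rfl
  obtain ⟨w₁, hw₁1, hw₁2⟩ := Groth.Agent.H53.exists_point_of_isPullback sql.flip
    (Points.schemeHomeo (Over.mk sB) x₀) w hpt.symm
  have h1 : PAt P (l ≫ q) w₁ :=
    PAt.precomp hP (IsAlgSpace.yon_obj _) hW (IsAlgSpace.yon_obj _) l hle q w₁ (by rwa [hw₁2])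
  rw [hl2] at h1
  have h2 := m1 hP n sA φ sB hs w₁ h1
  rw [← hφ] at h2
  have h3 := PAt.of_precomp β hβe f _ h2
  rw [hw₁1, ← hpt] at h3
  exact h3

end Groth.Agent.H53.ESL
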