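import Groth.Agent.H53.ESL.M2

/-!
# Descent of `PAt` along a smooth morphism: etale over affine space, then general over an affine base
-/

set_option autoImplicit false
universe u
open CategoryTheory CategoryTheory.Limits AlgebraicGeometry
open AlgSp

namespace Groth.Agent.H53.ESL

variable {S : Scheme.{u}} {P : MorphismProperty (Sp S)}

theorem m3 (hP : Hyp P) (n : ℕ) {A : CommRingCat.{u}} (sA : Spec A ⟶ S) {X W : Sp S}
    (hX : IsAlgSpace X) (hW : IsAlgSpace W) {V₁ : Over S} (π : V₁ ⟶ LO n sA) (hπ : Etale π.left)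
    {f : X ⟶ (yon S).obj (Over.mk sA)} {p : W ⟶ X} {q : W ⟶ (yon S).obj V₁}
    (sq : IsPullback p q f ((yon S).map π ≫ (yon S).map (LO.proj n sA)))
    (w : Points W) (hw : PAt P q w) : PAt P f (Points.map p w) := by
  have hL : IsAlgSpace ((yon S).obj (LO n sA)) := IsAlgSpace.yon_obj _
  have hT : IsAlgSpace ((yon S).obj (Over.mk sA)) := IsAlgSpace.yon_obj _
  have hV : IsAlgSpace ((yon S).obj V₁) := IsAlgSpace.yon_obj _
  have hπe : IsEtaleMor ((yon S).map π) := (isEtaleMor_yon_map_iff _).2 hπ
  have sqE : IsPullback (pullback.fst f ((yon S).map (LO.proj n sA)))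
      (pullback.snd f ((yon S).map (LO.proj n sA))) f ((yon S).map (LO.proj n sA)) :=
    IsPullback.of_hasPullback _ _
  have hE : IsAlgSpace (pullback f ((yon S).map (LO.proj n sA))) :=
    Groth.Agent.H49.isAlgSpace_of_isPullback sqE hT.diag hX hL
  have hcomm : p ≫ f = (q ≫ (yon S).map π) ≫ (yon S).map (LO.proj n sA) := by
    rw [Category.assoc]; exact sq.w
  let e : W ⟶ pullback f ((yon S).map (LO.proj n sA)) := sqE.lift _ _ hcomm
  have he1 : e ≫ pullback.fst f ((yon S).map (LO.proj n sA)) = p := sqE.lift_fst _ _ hcomm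
  have he2 : e ≫ pullback.snd f ((yon S).map (LO.proj n sA)) = q ≫ (yon S).map π :=
    sqE.lift_snd _ _ hcomm
  have outer : IsPullback (e ≫ pullback.fst f ((yon S).map (LO.proj n sA))) q f
      ((yon S).map π ≫ (yon S).map (LO.proj n sA)) := by
    rw [he1]; exact sq
  have sqe : IsPullback e q (pullback.snd f ((yon S).map (LO.proj n sA))) ((yon S).map π) :=
    IsPullback.of_right outer he2 sqE
  have hee : IsEtaleMor e := isEtaleMor_of_isPullback hV hL hE sqe.flip hπe
  have h1 : PAt P (q ≫ (yon S).map π) w := PAt.postcomp hP hV hL _ hπe w hw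
  rw [← he2] at h1
  have h2 := PAt.of_precomp e hee _ w h1
  have h3 := m2 hP n sA hX hE sqE _ h2
  rw [← Points.map_comp, he1] at h3
  exact h3

end Groth.Agent.H53.ESL
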