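import Mathlib

/-!
# Local structure of smooth algebras, in ring-hom form
-/

set_option autoImplicit false
universe u

namespace Groth.Agent.H53.ESL

theorem exists_etale_mvPolynomial_of_smooth {A C : Type u} [CommRing A] [CommRing C] [Algebra A C]
    [Algebra.Smooth A C] (p : Ideal C) [p.IsPrime] :
    ∃ f ∉ p, ∃ (n : ℕ) (ρ : MvPolynomial (Fin n) A →+* Localization.Away f), ρ.Etale ∧
      ρ.comp (MvPolynomial.C (σ := Fin n)) =
        (algebraMap C (Localization.Away f)).comp (algebraMap A C) := by
  have : Algebra.FormallySmooth A (Localization.AtPrime p) :=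
    Algebra.FormallySmooth.comp A C (Localization.AtPrime p)
  obtain ⟨f, hf, n, alg, htower, hstd⟩ :=
    Algebra.IsSmoothAt.exists_isStandardEtale_mvPolynomial (R := A) (S := C) (p := p)
  refine ⟨f, hf, n, algebraMap (MvPolynomial (Fin n) A) (Localization.Away f), ?_, ?_⟩
  · rw [RingHom.etale_algebraMap]
    infer_instance
  · rw [← IsScalarTower.algebraMap_eq A C (Localization.Away f)]
    exact (IsScalarTower.algebraMap_eq A (MvPolynomial (Fin n) A) (Localization.Away f)).symm

end Groth.Agent.H53.ESL
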