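import Groth.Agent.H53.ESL.M3
import Groth.Agent.H53.ESL.SmoothStr

/-!
# Descent of `PAt` along a smooth morphism to an affine base
-/

set_option autoImplicit false
universe u
open CategoryTheory CategoryTheory.Limits AlgebraicGeometry
open AlgSp

namespace Groth.Agent.H53.ESL

variable {S : Scheme.{u}} {P : MorphismProperty (Sp S)}

theorem m4 (hP : Hyp P) {A : CommRingCat.{u}} (sA : Spec A ⟶ S) {X V W : Sp S}
    (hX : IsAlgSpace X) (hV : IsAlgSpace V) (hW : IsAlgSpace W)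
    {f : X ⟶ (yon S).obj (Over.mk sA)} {b : V ⟶ (yon S).obj (Over.mk sA)} (hb : LocP @Smooth b)
    {p : W ⟶ X} {q : W ⟶ V} (sq : IsPullback p q f b) (w : Points W) (hw : PAt P q w) :
    PAt P f (Points.map p w) := by
  obtain ⟨C, sC, γ, v₀, hγ, hv₀⟩ := exists_spec_chart_through hV (Points.map q w)
  obtain ⟨χ, hs, hχ⟩ := exists_TOmap_eq sA sC (γ ≫ b)
  have hsm : Smooth (Spec.map χ) :=
    hb γ (𝟙 _) (TOmap χ sA sC hs) hγ (repWith_id _ _) (by rw [Category.comp_id]; exact hχ)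
  -- the algebra
  let _ : Algebra A C := χ.hom.toAlgebra
  have hsmA : Algebra.Smooth A C := (HasRingHomProperty.Spec_iff (P := @Smooth)).1 hsm
  obtain ⟨f₀, hf₀, n, ρ, hρ, hρC⟩ :=
    exists_etale_mvPolynomial_of_smooth (A := A) (C := C) v₀.asIdeal
  let Cf : CommRingCat.{u} := CommRingCat.of (Localization.Away f₀)
  let ιf : C ⟶ Cf := CommRingCat.ofHom (algebraMap C (Localization.Away f₀))
  let sCf : Spec Cf ⟶ S := Spec.map ιf ≫ sC
  have hring : CommRingCat.ofHom (MvPolynomial.C (σ := Fin n)) ≫ CommRingCat.ofHom ρ = χ ≫ ιf := by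
    rw [← CommRingCat.ofHom_comp, hρC]
    rfl
  have hsch : Spec.map (CommRingCat.ofHom ρ) ≫ affProj n A = Spec.map ιf ≫ Spec.map χ := by
    rw [← Spec.map_comp, ← Spec.map_comp, hring]
  let π : Over.mk sCf ⟶ LO n sA := Over.homMk (Spec.map (CommRingCat.ofHom ρ)) (by
    change Spec.map (CommRingCat.ofHom ρ) ≫ affProj n A ≫ sA = Spec.map ιf ≫ sC
    rw [← hs, ← Category.assoc, ← Category.assoc, hsch])
  have hπ : Etale π.left := (HasRingHomProperty.Spec_iff (P := @Etale)).2 hρ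
  let γ₁ : (yon S).obj (Over.mk sCf) ⟶ V := (yon S).map (TOmap ιf sC sCf rfl) ≫ γ
  have hγ₁ : IsEtaleMor γ₁ := isEtaleMor_of_repWith'
    (Groth.Agent.H53.repWith_etale_map_comp _ (show Etale (Spec.map ιf) from inferInstance) γ hγ)
  have hγb : γ₁ ≫ b = (yon S).map π ≫ (yon S).map (LO.proj n sA) := by
    rw [Category.assoc, hχ, ← Functor.map_comp, ← Functor.map_comp]
    exact congrArg _ (Over.OverMorphism.ext hsch.symm)
  -- the point
  have hv₀r : v₀ ∈ Set.range (Spec.map ιf) := by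
    rw [show Set.range (Spec.map ιf) = (PrimeSpectrum.basicOpen f₀ : Set (PrimeSpectrum C)) from
      PrimeSpectrum.localization_away_comap_range _ f₀]
    exact hf₀
  obtain ⟨v₁, hv₁⟩ := hv₀r
  have hpt : Points.map q w = Points.map γ₁ (Points.schemeHomeo (Over.mk sCf) v₁) := by
    rw [Points.map_comp, Points.map_yon_map_apply, ← hv₀, Points.ofPt_eq_map_ofScheme]
    exact congrArg (fun t => Points.map γ (Points.schemeHomeo (Over.mk sC) t)) hv₁.symm
  -- the pullback
  have sqW : IsPullback (pullback.fst q γ₁) (pullback.snd q γ₁) q γ₁ :=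
    IsPullback.of_hasPullback _ _
  have hV₁ : IsAlgSpace ((yon S).obj (Over.mk sCf)) := IsAlgSpace.yon_obj _
  have hW₁ : IsAlgSpace (pullback q γ₁) :=
    Groth.Agent.H49.isAlgSpace_of_isPullback sqW hV.diag hW hV₁
  obtain ⟨w₁, hw₁1, hw₁2⟩ := Groth.Agent.H53.exists_point_of_isPullback sqW w _ hpt
  have h1 : PAt P (pullback.snd q γ₁) w₁ :=
    PAt.baseChange hP hW hV hW₁ hV₁ sqW (Groth.Agent.H53.locP_smooth_of_isEtaleMor _ hγ₁) w₁
      (by rwa [hw₁1])
  have sq' : IsPullback (pullback.fst q γ₁ ≫ p) (pullback.snd q γ₁) f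
      ((yon S).map π ≫ (yon S).map (LO.proj n sA)) := by
    rw [← hγb]
    exact sqW.paste_horiz sq
  have h2 := m3 hP n sA hX hW₁ π hπ sq' w₁ h1
  rw [Points.map_comp, hw₁1] at h2
  exact h2

end Groth.Agent.H53.ESL
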