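import Groth.Agent.H53.ESL.M4

/-!
# Descent of `PAt` along smooth base change, and the main theorem (S10570)
-/

set_option autoImplicit false
universe u
open CategoryTheory CategoryTheory.Limits AlgebraicGeometry
open AlgSp

namespace Groth.Agent.H53.ESL

variable {S : Scheme.{u}} {P : MorphismProperty (Sp S)}

/-- `PAt` descends along smooth base change. -/
theorem m5 (hP : Hyp P) {X Y V W : Sp S} (hX : IsAlgSpace X) (hY : IsAlgSpace Y)
    (hV : IsAlgSpace V) (hW : IsAlgSpace W) {f : X ⟶ Y} {b : V ⟶ Y} (hb : LocP @Smooth b)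
    {p : W ⟶ X} {q : W ⟶ V} (sq : IsPullback p q f b) (w : Points W) (hw : PAt P q w) :
    PAt P f (Points.map p w) := by
  obtain ⟨A, sA, α, y₀, hα, hy₀⟩ := exists_spec_chart_through hY (Points.map f (Points.map p w))
  have hαe : IsEtaleMor α := isEtaleMor_of_repWith' hα
  have hT : IsAlgSpace ((yon S).obj (Over.mk sA)) := IsAlgSpace.yon_obj _
  -- base changes of `X` and `V`
  have sqX : IsPullback (pullback.fst f α) (pullback.snd f α) f α := IsPullback.of_hasPullback _ _
  have sqV : IsPullback (pullback.fst b α) (pullback.snd b α) b α := IsPullback.of_hasPullback _ _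
  have hXT : IsAlgSpace (pullback f α) :=
    Groth.Agent.H49.isAlgSpace_of_isPullback sqX hY.diag hX hT
  have hVT : IsAlgSpace (pullback b α) :=
    Groth.Agent.H49.isAlgSpace_of_isPullback sqV hY.diag hV hT
  have hbT : LocP @Smooth (pullback.snd b α) :=
    Groth.Agent.H53.locP_smooth_of_isPullback hV hY hT sqV hb
  have hvfst : IsEtaleMor (pullback.fst b α) :=
    isEtaleMor_of_isPullback hT hY hV sqV.flip hαe
  -- the fibre product upstairs
  have sqW' : IsPullback (pullback.fst (pullback.snd f α) (pullback.snd b α))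
      (pullback.snd (pullback.snd f α) (pullback.snd b α)) (pullback.snd f α)
      (pullback.snd b α) := IsPullback.of_hasPullback _ _
  have hW' : IsAlgSpace (pullback (pullback.snd f α) (pullback.snd b α)) :=
    Groth.Agent.H49.isAlgSpace_of_isPullback sqW' hT.diag hXT hVT
  have hcomm : (pullback.fst (pullback.snd f α) (pullback.snd b α) ≫ pullback.fst f α) ≫ f =
      (pullback.snd (pullback.snd f α) (pullback.snd b α) ≫ pullback.fst b α) ≫ b := by
    rw [Category.assoc, sqX.w, ← Category.assoc, sqW'.w, Category.assoc, ← sqV.w, Category.assoc]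
  let r : pullback (pullback.snd f α) (pullback.snd b α) ⟶ W := sq.lift _ _ hcomm
  have hr1 : r ≫ p = pullback.fst (pullback.snd f α) (pullback.snd b α) ≫ pullback.fst f α :=
    sq.lift_fst _ _ hcomm
  have hr2 : r ≫ q = pullback.snd (pullback.snd f α) (pullback.snd b α) ≫ pullback.fst b α :=
    sq.lift_snd _ _ hcomm
  have outer : IsPullback (r ≫ p) (pullback.snd (pullback.snd f α) (pullback.snd b α)) f
      (pullback.fst b α ≫ b) := by
    rw [hr1, sqV.w]
    exact sqW'.paste_horiz sqX
  have sqr : IsPullback r (pullback.snd (pullback.snd f α) (pullback.snd b α)) q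
      (pullback.fst b α) := IsPullback.of_right outer hr2 sq
  -- the point
  have hpt1 : Points.map b (Points.map q w) =
      Points.map α (Points.schemeHomeo (Over.mk sA) y₀) := by
    rw [← Points.map_comp, ← sq.w, Points.map_comp, ← hy₀, Points.ofPt_eq_map_ofScheme]
    rfl
  obtain ⟨vT, hvT1, hvT2⟩ := Groth.Agent.H53.exists_point_of_isPullback sqV _ _ hpt1
  obtain ⟨w', hw'1, hw'2⟩ := Groth.Agent.H53.exists_point_of_isPullback sqr w vT hvT1.symm
  have h1 : PAt P (pullback.snd (pullback.snd f α) (pullback.snd b α)) w' :=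
    PAt.baseChange hP hW hV hW' hVT sqr (Groth.Agent.H53.locP_smooth_of_isEtaleMor _ hvfst) w'
      (by rwa [hw'1])
  have h2 := m4 hP sA hXT hVT hW' hbT sqW' w' h1
  have h3 := PAt.descend hP hX hY hXT hT sqX hαe _ h2
  rw [← Points.map_comp, ← hr1, Points.map_comp, hw'1] at h3
  exact h3

/-- The main theorem. -/
theorem isEtaleSmoothLocalST (hP : Hyp P) : IsEtaleSmoothLocalST P where
  precomp := fun _ _ _ hX hY hZ f g hf hg => hP.precomp hX hY hZ f g hf hg
  baseChange := fun _ _ _ _ hX hY hX' hY' f g f' g' sq hg hf =>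
    hP.baseChange hX hY hX' hY' f g f' g' sq hg hf
  locality := fun X Y hX hY f => by
    constructor
    · intro hf x
      exact ⟨Y, X, X, 𝟙 Y, 𝟙 X, f, 𝟙 X, x, hY, hX, hX, Groth.Agent.H53.locP_smooth_id Y,
        IsPullback.of_id_fst, Groth.Agent.H53.isEtaleMor_id X,
        by rw [Category.comp_id, Points.map_id], by rwa [Category.id_comp]⟩
    · intro H
      refine hP.glue hX hY f (fun x => ?_)
      obtain ⟨V, W, U, b, p, q, e, v, hV, hW, hU, hb, sq, he, hx, hPe⟩ := H x
      have h1 : PAt P q (Points.map e v) := ⟨U, e, hU, he, ⟨v, rfl⟩, hPe⟩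
      have h2 := m5 hP hX hY hV hW hb sq _ h1
      rw [← Points.map_comp, hx] at h2
      exact h2

end Groth.Agent.H53.ESL
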