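import Groth.Agent.H53.ESL.EtPost2

/-!
# Pointwise version of `P` and its permanence properties
-/

set_option autoImplicit false
universe u
open CategoryTheory CategoryTheory.Limits AlgebraicGeometry
open AlgSp

namespace Groth.Agent.H53.ESL

variable {S : Scheme.{u}} {P : MorphismProperty (Sp S)}

theorem isEtaleMor_comp' {A B C : Sp S} {a : A ⟶ B} {b : B ⟶ C} (ha : IsEtaleMor a)
    (hb : IsEtaleMor b) : IsEtaleMor (a ≫ b) := fun U φ hφ => by
  rw [← Category.assoc]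
  exact hb _ (ha φ hφ)

/-- Smooth base change of `PAt`. -/
theorem PAt.baseChange (hP : Hyp P) {X Y X' Y' : Sp S} (hX : IsAlgSpace X) (hY : IsAlgSpace Y)
    (hX' : IsAlgSpace X') (hY' : IsAlgSpace Y') {q : X' ⟶ X} {p : X' ⟶ Y'} {f : X ⟶ Y}
    {g : Y' ⟶ Y} (sq : IsPullback q p f g) (hg : LocP @Smooth g) (x' : Points X')
    (h : PAt P f (Points.map q x')) : PAt P p x' := by
  obtain ⟨M, m, hM, hm, ⟨z, hz⟩, hPm⟩ := h
  have sqM : IsPullback (pullback.fst m q) (pullback.snd m q) m q := IsPullback.of_hasPullback _ _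
  have hM' : IsAlgSpace (pullback m q) :=
    Groth.Agent.H49.isAlgSpace_of_isPullback sqM hX.diag hM hX'
  refine ⟨pullback m q, pullback.snd m q, hM', isEtaleMor_of_isPullback hM hX hX' sqM hm, ?_, ?_⟩
  · obtain ⟨w, -, hw⟩ := Groth.Agent.H53.exists_point_of_isPullback sqM z x' hz
    exact ⟨w, hw⟩
  · exact hP.baseChange hM hY hM' hY' (m ≫ f) g _ _ (sqM.paste_vert sq) hg hPm

/-- Etale descent of `PAt`. -/
theorem PAt.descend (hP : Hyp P) {X Y X' Y' : Sp S} (hX : IsAlgSpace X) (hY : IsAlgSpace Y)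
    (hX' : IsAlgSpace X') (hY' : IsAlgSpace Y') {q : X' ⟶ X} {p : X' ⟶ Y'} {f : X ⟶ Y}
    {g : Y' ⟶ Y} (sq : IsPullback q p f g) (hg : IsEtaleMor g) (x' : Points X')
    (h : PAt P p x') : PAt P f (Points.map q x') := by
  obtain ⟨M, m, hM, hm, ⟨z, hz⟩, hPm⟩ := h
  have hq : IsEtaleMor q := isEtaleMor_of_isPullback hY' hY hX sq.flip hg
  refine ⟨M, m ≫ q, hM, isEtaleMor_comp' hm hq, ⟨z, ?_⟩, ?_⟩
  · rw [Points.map_comp, hz]
  · have := etPost hP hM hY' hY (m ≫ p) g hg hPm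
    rw [Category.assoc, sq.w, ← Category.assoc] at *
    exact this

/-- `PAt` and postcomposition with an etale morphism. -/
theorem PAt.postcomp (hP : Hyp P) {X Y Z : Sp S} (hY : IsAlgSpace Y)
    (hZ : IsAlgSpace Z) {f : X ⟶ Y} (π : Y ⟶ Z) (hπ : IsEtaleMor π) (x : Points X)
    (h : PAt P f x) : PAt P (f ≫ π) x := by
  obtain ⟨M, m, hM, hm, hz, hPm⟩ := h
  refine ⟨M, m, hM, hm, hz, ?_⟩
  rw [← Category.assoc]
  exact etPost hP hM hY hZ (m ≫ f) π hπ hPm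

/-- `PAt` after precomposition with an etale morphism. -/
theorem PAt.precomp (hP : Hyp P) {X₀ X Y : Sp S} (hX₀ : IsAlgSpace X₀) (hX : IsAlgSpace X)
    (hY : IsAlgSpace Y) (m₀ : X₀ ⟶ X) (hm₀ : IsEtaleMor m₀) (f : X ⟶ Y) (x₀ : Points X₀)
    (h : PAt P f (Points.map m₀ x₀)) : PAt P (m₀ ≫ f) x₀ := by
  obtain ⟨M, m, hM, hm, ⟨z, hz⟩, hPm⟩ := h
  have sqM : IsPullback (pullback.fst m m₀) (pullback.snd m m₀) m m₀ :=
    IsPullback.of_hasPullback _ _
  have hM' : IsAlgSpace (pullback m m₀) :=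
    Groth.Agent.H49.isAlgSpace_of_isPullback sqM hX.diag hM hX₀
  refine ⟨pullback m m₀, pullback.snd m m₀, hM', isEtaleMor_of_isPullback hM hX hX₀ sqM hm, ?_, ?_⟩
  · obtain ⟨w, -, hw⟩ := Groth.Agent.H53.exists_point_of_isPullback sqM z x₀ hz
    exact ⟨w, hw⟩
  · rw [← Category.assoc, ← sqM.w, Category.assoc]
    exact hP.precomp hM' hM hY _ _ (isEtaleMor_of_isPullback hX₀ hX hM sqM.flip hm₀) hPm

/-- `PAt` descends along precomposition with an etale morphism. -/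
theorem PAt.of_precomp {X₀ X Y : Sp S} (m₀ : X₀ ⟶ X) (hm₀ : IsEtaleMor m₀) (f : X ⟶ Y)
    (x₀ : Points X₀) (h : PAt P (m₀ ≫ f) x₀) : PAt P f (Points.map m₀ x₀) := by
  obtain ⟨M, m, hM, hm, ⟨z, hz⟩, hPm⟩ := h
  refine ⟨M, m ≫ m₀, hM, isEtaleMor_comp' hm hm₀, ⟨z, ?_⟩, ?_⟩
  · rw [Points.map_comp, hz]
  · rwa [Category.assoc]

end Groth.Agent.H53.ESL
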